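import Groth.Agent.CAlg.K673.FFCore

/-!
# Full faithfulness of descent of flat `W_n`-modules
-/

set_option autoImplicit false
set_option backward.isDefEq.respectTransparency false
set_option backward.isDefEq.respectTransparency.types false
open CategoryTheory Opposite TensorProduct
universe u

namespace K673.FFWitt

open Groth.Agent.Desc.SecD Groth.Agent K673.GPF Pseudofunctor SecData

section

variable {G : CommRingCat.{u} ⥤ CommRingCat.{u}}

theorem exists_unique_hom {X : CommRingCat.{u}ᵒᵖ} (M N : ModuleCat.{u} (WR G X))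
    (s : M →+ N) (hs : ∀ (r : WR G X) (g : M), s (r • g) = r • s g) :
    ∃! φ : M ⟶ N, ∀ g, φ.hom g = s g :=
  ⟨ModuleCat.ofHom { toFun := s, map_add' := map_add s, map_smul' := hs }, fun _ => rfl,
    fun _ hψ => ModuleCat.hom_ext (LinearMap.ext hψ)⟩

/-- full faithfulness of descent of flat `G(R)`-modules -/
theorem ffHyp {R A B : CommRingCat.{u}} (φ : R ⟶ A) (ι₁ ι₂ : A ⟶ B) (hw : φ ≫ ι₁ = φ ≫ ι₂)
    (hex : ∀ a, (G.map ι₁).hom a = (G.map ι₂).hom a → ∃ r, (G.map φ).hom r = a)
    (hinj : Function.Injective (G.map φ).hom)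
    (M N : ModuleCat.{u} (G.obj R)) (hN : Module.Flat (G.obj R) N) :
    K673.FFCore.FFHyp (sec G) φ.op M N ι₁.op ι₂.op := by
  have hp : ι₁.op ≫ φ.op = ι₂.op ≫ φ.op := by rw [← op_comp, hw, op_comp]
  have h := K673.FFCore.exact_of_flat (sec G) (f := φ.op) N ι₁.op ι₂.op hp hN
    (isBC_unitHom _ _) (isBC_unitHom _ _) hex hinj
  exact ⟨sec_free _ _, exists_unique_hom M N, hp, h.1, h.2⟩

end

/-- `wittModPF` with sections -/
noncomputable def secW (p : ℕ) [Fact p.Prime] (n : ℕ) :
    SecData.{u} (W4c3truncdispsmooth.wittModPF.{u} p n) :=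
  sec (W4c3truncdispsmooth.wittTrunc p n)

variable (p : ℕ) [Fact p.Prime] (n : ℕ) (R R' : Type u) [CommRing R] [CommRing R'] [Algebra R R']

theorem hyp0 [Module.FaithfullyFlat R R']
    (M N : ModuleCat.{u} ((W4c3truncdispsmooth.wittTrunc p n).obj (CommRingCat.of R)))
    (hN : Module.Flat ((W4c3truncdispsmooth.wittTrunc p n).obj (CommRingCat.of R)) N) :
    K673.FFCore.FFHyp (sec (W4c3truncdispsmooth.wittTrunc p n))
      (CommRingCat.ofHom (algebraMap R R')).op M N
      (CommRingCat.ofHom (Algebra.TensorProduct.includeLeftRingHom : R' →+* R' ⊗[R] R')).op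
      (CommRingCat.ofHom ((Algebra.TensorProduct.includeRight : R' →ₐ[R] R' ⊗[R] R') :
        R' →+* R' ⊗[R] R')).op := by
  refine ffHyp (CommRingCat.ofHom (algebraMap R R'))
    (CommRingCat.ofHom (Algebra.TensorProduct.includeLeftRingHom : R' →+* R' ⊗[R] R'))
    (CommRingCat.ofHom ((Algebra.TensorProduct.includeRight : R' →ₐ[R] R' ⊗[R] R') : R' →+* R' ⊗[R] R'))
    ?_ ?_ ?_ M N hN
  · ext r
    change algebraMap R R' r ⊗ₜ[R] (1 : R') = (1 : R') ⊗ₜ[R] algebraMap R R' r
    rw [Algebra.algebraMap_eq_smul_one, TensorProduct.smul_tmul]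
  · exact fun a ha => K673.WittEq.exists_of_truncMap_eq (R := R) (A := R') (p := p) (n := n) a ha
  · exact K673.WittEq.truncMap_injective (p := p) (n := n) (algebraMap R R')
      (FaithfulSMul.algebraMap_injective R R')

theorem hyp1 [Module.FaithfullyFlat R R']
    (M N : ModuleCat.{u} ((W4c3truncdispsmooth.wittTrunc p n).obj (CommRingCat.of R)))
    (hN : Module.Flat ((W4c3truncdispsmooth.wittTrunc p n).obj (CommRingCat.of R)) N) :
    K673.FFCore.FFHyp (secW p n)
      (CommRingCat.ofHom (algebraMap R R')).op M N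
      (CommRingCat.ofHom (Algebra.TensorProduct.includeLeftRingHom : R' →+* R' ⊗[R] R')).op
      (CommRingCat.ofHom ((Algebra.TensorProduct.includeRight : R' →ₐ[R] R' ⊗[R] R') :
        R' →+* R' ⊗[R] R')).op :=
  hyp0 p n R R' M N hN

theorem main [Module.FaithfullyFlat R R'] (M N : ModuleCat.{u} (TruncatedWittVector p n R))
    (hN : Module.Flat (TruncatedWittVector p n R) N) :
    Function.Bijective (fun φ : M ⟶ N =>
      ((W4c3truncdispsmooth.wittModPF.{u} p n).toDescentData
        (fun _ : PUnit.{u + 1} => (CommRingCat.ofHom (algebraMap R R')).op)).map φ) :=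
  K673.FFCore.FFHyp.bijective.{u,u,u,u,u+1,u+1} (hyp1 p n R R' M N hN)

end K673.FFWitt
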