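import Groth.Agent.CAlg.K673.GhDat
import Groth.Agent.CAlg.K673.FFWitt

/-!
# Effectivity of truncated Witt descent of finite projective modules
-/

set_option autoImplicit false
set_option backward.isDefEq.respectTransparency false
set_option backward.isDefEq.respectTransparency.types false
open CategoryTheory Opposite TensorProduct
universe w t v' v u' u

namespace K673.EffWitt

open Groth.Agent.Desc.SecD Groth.Agent Pseudofunctor SecData K673.GPF K673.GhDat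

section gen

variable {C : Type u} [Category.{v} C]

/-- solvability of the algebraic descent problem for a presheaf of rings -/
def Solv (O : Cᵒᵖ ⥤ CommRingCat.{w}) {X S Y Z : C} (f : X ⟶ S) (p₁ p₂ : Y ⟶ X) (Δ : X ⟶ Y)
    (q₂₃ q₁₂ q₁₃ : Z ⟶ Y) : Prop :=
  ∀ (M P Q : Type w) (_ : AddCommGroup M) (_ : AddCommGroup P) (_ : AddCommGroup Q)
    (iM : Module (O.obj (op X)) M) (iP : Module (O.obj (op Y)) P) (iQ : Module (O.obj (op Z)) Q)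
    (a₁ : M →+ P) (_ : ∀ (r : O.obj (op X)) m, a₁ (r • m) = (O.map p₁.op).hom r • a₁ m)
    (a₂ : M →+ P) (_ : IsBC (O.map p₂.op).hom iM iP a₂)
    (b₁₂ : P →+ Q) (_ : ∀ (r : O.obj (op Y)) m, b₁₂ (r • m) = (O.map q₁₂.op).hom r • b₁₂ m)
    (b₁₃ : P →+ Q) (_ : ∀ (r : O.obj (op Y)) m, b₁₃ (r • m) = (O.map q₁₃.op).hom r • b₁₃ m)
    (b₂₃ : P →+ Q) (_ : IsBC (O.map q₂₃.op).hom iP iQ b₂₃)
    (_ : ∀ m, b₁₂ (a₁ m) = b₁₃ (a₁ m)) (_ : ∀ m, b₁₂ (a₂ m) = b₂₃ (a₁ m))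
    (_ : ∀ m, b₁₃ (a₂ m) = b₂₃ (a₂ m))
    (t₀ : P →+ M) (_ : ∀ (r : O.obj (op Y)) m, t₀ (r • m) = (O.map Δ.op).hom r • t₀ m)
    (_ : ∀ m, t₀ (a₁ m) = m) (_ : ∀ m, t₀ (a₂ m) = m)
    (_ : Module.Finite (O.obj (op X)) M) (_ : Module.Projective (O.obj (op X)) M),
    ∃ L : ModuleCat.{w} (O.obj (op S)), Module.Finite (O.obj (op S)) L ∧
      Module.Projective (O.obj (op S)) L ∧ ∃ s : L →+ M, IsBC (O.map f.op).hom inferInstance iM s ∧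
          ∀ l, a₁ (s l) = a₂ (s l)

variable {F : Pseudofunctor (LocallyDiscrete Cᵒᵖ) Cat.{v', u'}}
  (σ : SecData.{w} F) {X S : C} (f : X ⟶ S)

/-- hypotheses for effectivity of descent of finite projective modules along `f` -/
structure Good : Prop where
  bc : ∀ {A B : C} (g : B ⟶ A) (M : F.obj (.mk (op A))),
    IsBC (σ.O.map g.op).hom inferInstance inferInstance (σ.unit g M)
  hid : ∀ M : F.obj (.mk (op X)), Function.Bijective (σ.unit (𝟙 X) M)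
  hfree : ∀ N : ModuleCat.{w} (σ.O.obj (op S)), ∃ G : F.obj (.mk (op S)), σ.Free f G ∧
      Nonempty ((σ.Γ S).obj G ≅ N)
  hiso : ∀ {M N : F.obj (.mk (op X))} (ψ : M ⟶ N), Function.Bijective ((σ.Γ X).map ψ).hom → IsIso ψ
  solv : ∃ (Y Z : C) (p₁ p₂ : Y ⟶ X) (_ : p₁ ≫ f = p₂ ≫ f)
    (_ : ∀ {T : C} (f₁ f₂ : T ⟶ X), f₁ ≫ f = f₂ ≫ f → ∃ l : T ⟶ Y, l ≫ p₁ = f₁ ∧ l ≫ p₂ = f₂)
    (Δ : X ⟶ Y) (_ : Δ ≫ p₁ = 𝟙 X) (_ : Δ ≫ p₂ = 𝟙 X) (q₁ q₂ q₃ : Z ⟶ X)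
    (q₂₃ : Z ⟶ Y) (_ : q₂₃ ≫ p₁ = q₂) (_ : q₂₃ ≫ p₂ = q₃)
    (q₁₂ : Z ⟶ Y) (_ : q₁₂ ≫ p₁ = q₁) (_ : q₁₂ ≫ p₂ = q₂)
    (q₁₃ : Z ⟶ Y) (_ : q₁₃ ≫ p₁ = q₁) (_ : q₁₃ ≫ p₂ = q₃), Solv σ.O f p₁ p₂ Δ q₂₃ q₁₂ q₁₃

variable {σ f}

theorem Good.eff (h : Good σ f) (D : F.DescentData (fun _ : PUnit.{t + 1} => f))
    (hMf : Module.Finite (σ.O.obj (op X)) ((σ.Γ X).obj (dObj D)))
    (hMp : Module.Projective (σ.O.obj (op X)) ((σ.Γ X).obj (dObj D))) :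
    ∃ G : F.obj (.mk (op S)), Module.Finite (σ.O.obj (op S)) ((σ.Γ S).obj G) ∧
      Module.Projective (σ.O.obj (op S)) ((σ.Γ S).obj G) ∧
      Nonempty ((F.toDescentData (fun _ : PUnit.{t + 1} => f)).obj G ≅ D) := by
  obtain ⟨Y, Z, p₁, p₂, hp, hY, Δ, hΔ₁, hΔ₂, q₁, q₂, q₃, q₂₃, h₂₃, h₂₃', q₁₂, h₁₂, h₁₂', q₁₃, h₁₃,
    h₁₃', hs⟩ := h.solv
  obtain ⟨t₀, ht₀, ht₁, ht₂⟩ := exists_diag σ D p₁ p₂ hp Δ hΔ₁ hΔ₂ (h.hid _)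
  have d := maps σ D p₁ p₂ hp q₁ q₂ q₃ q₂₃ h₂₃ h₂₃' q₁₂ h₁₂ h₁₂' q₁₃ h₁₃ h₁₃'
  obtain ⟨L, hL1, hL2, s, hs1, hs2⟩ := hs ((σ.Γ X).obj (dObj D))
    ((σ.Γ Y).obj ((F.map p₂.op.toLoc).toFunctor.obj (dObj D)))
    ((σ.Γ Z).obj ((F.map q₃.op.toLoc).toFunctor.obj (dObj D))) inferInstance inferInstance
    inferInstance inferInstance inferInstance inferInstance
    ((σ.δ D p₁ p₂ hp).toAddMonoidHom.comp (σ.unit p₁ (dObj D)))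
    (fun r m => by
      change σ.δ D p₁ p₂ hp (σ.unit p₁ (dObj D) (r • m)) =
        (σ.O.map p₁.op).hom r • σ.δ D p₁ p₂ hp (σ.unit p₁ (dObj D) m)
      rw [σ.unit_smul, map_smul])
    (σ.unit p₂ (dObj D)) (h.bc _ _)
    d.b₁₂ d.b₁₂_smul d.b₁₃ d.b₁₃_smul d.b₂₃ (d.hb₂₃ (h.bc _ _)) d.c11 d.c12 d.c13
    t₀ ht₀ ht₁ ht₂ hMf hMp
  obtain ⟨G, hG, ⟨e⟩⟩ := h.hfree L
  have hb : Function.Bijective e.hom.hom := ConcreteCategory.bijective_of_isIso e.hom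
  let e' : (σ.Γ S).obj G ≃ₗ[σ.O.obj (op S)] L := LinearEquiv.ofBijective e.hom.hom hb
  refine ⟨G, Module.Finite.equiv e'.symm, Module.Projective.of_equiv e'.symm,
    σ.exists_iso_of_free D p₁ p₂ hp hY G hG
    (s.comp e'.toLinearMap.toAddMonoidHom) (hs1.comp_equiv e') ?_ (fun ψ hψ => h.hiso ψ hψ)⟩
  intro g
  exact hs2 _

end gen

section witt

open W4c3truncdispsmooth

theorem unit_id_bijective {G : CommRingCat.{u} ⥤ CommRingCat.{u}} {X : CommRingCat.{u}ᵒᵖ}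
    (M : ModuleCat.{u} (WR G X)) : Function.Bijective ((sec G).unit (𝟙 X) M) := by
  have h := isBC_unitHom (𝟙 X) M
  have hid : WM G (𝟙 X) = RingHom.id _ := by
    change (G.map (𝟙 X.unop)).hom = _
    rw [CategoryTheory.Functor.map_id]
    rfl
  refine ⟨h.injective_of_id hid, fun y => ?_⟩
  revert y
  refine fun y => pb_induction (𝟙 X) M (P := fun y => ∃ m, unitHom (𝟙 X) M m = y) ⟨0, map_zero _⟩
    ?_ ?_ y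
  · rintro _ _ ⟨m, rfl⟩ ⟨m', rfl⟩
    exact ⟨m + m', map_add _ _ _⟩
  · intro b m
    refine ⟨b • m, ?_⟩
    change unit (𝟙 X) M (b • m) = _
    rw [unit_smul, hid]
    rfl

/-- `Good` for `sec G` from `Solv` -/
theorem good_of_solv {G : CommRingCat.{u} ⥤ CommRingCat.{u}} {R A : CommRingCat.{u}} {φ : R ⟶ A}
    (H : ∀ (B T : CommRingCat.{u}) (ι₁ ι₂ : A ⟶ B) (κ₁ : A ⟶ T) (κ₂₃ q₁₂ q₁₃ : B ⟶ T)
      (_ : IsPushout φ φ ι₁ ι₂) (_ : IsPushout φ (φ ≫ ι₁) κ₁ κ₂₃)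
      (_ : ι₁ ≫ q₁₂ = κ₁) (_ : ι₂ ≫ q₁₂ = ι₁ ≫ κ₂₃)
      (_ : ι₁ ≫ q₁₃ = κ₁) (_ : ι₂ ≫ q₁₃ = ι₂ ≫ κ₂₃) (Δ : B ⟶ A) (_ : ι₁ ≫ Δ = 𝟙 A)
      (_ : ι₂ ≫ Δ = 𝟙 A), Solv (unopUnop CommRingCat.{u} ⋙ G) φ.op ι₁.op ι₂.op Δ.op κ₂₃.op
        q₁₂.op q₁₃.op) : Good (sec G) φ.op where
  bc g M := isBC_unitHom g M
  hid M := unit_id_bijective M
  hfree N := ⟨N, sec_free _ _, ⟨Iso.refl _⟩⟩
  hiso {M N} ψ hψ := isIso_of_bijective (X := op A) ψ hψ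
  solv := by
    obtain ⟨B, ι₁, ι₂, hB⟩ : ∃ (B : CommRingCat.{u}) (ι₁ : A ⟶ B) (ι₂ : A ⟶ B),
      IsPushout φ φ ι₁ ι₂ := ⟨_, _, _, IsPushout.of_hasPushout φ φ⟩
    obtain ⟨T, κ₁, κ₂₃, hT⟩ : ∃ (T : CommRingCat.{u}) (κ₁ : A ⟶ T) (κ₂ : B ⟶ T),
        IsPushout φ (φ ≫ ι₁) κ₁ κ₂ :=
      ⟨_, _, _, IsPushout.of_hasPushout φ (φ ≫ ι₁)⟩
    obtain ⟨q₁₂, h12, h12'⟩ : ∃ q₁₂ : B ⟶ T, ι₁ ≫ q₁₂ = κ₁ ∧ ι₂ ≫ q₁₂ = ι₁ ≫ κ₂₃ :=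
      ⟨hB.desc κ₁ (ι₁ ≫ κ₂₃) (by rw [hT.w, Category.assoc]), hB.inl_desc _ _ _, hB.inr_desc _ _ _⟩
    obtain ⟨q₁₃, h13, h13'⟩ : ∃ q₁₃ : B ⟶ T, ι₁ ≫ q₁₃ = κ₁ ∧ ι₂ ≫ q₁₃ = ι₂ ≫ κ₂₃ :=
      ⟨hB.desc κ₁ (ι₂ ≫ κ₂₃) (by rw [hT.w, ← Category.assoc, hB.w, Category.assoc]), hB.inl_desc _ _ _, hB.inr_desc _ _ _⟩
    obtain ⟨Δ, hΔ₁, hΔ₂⟩ : ∃ Δ : B ⟶ A, ι₁ ≫ Δ = 𝟙 A ∧ ι₂ ≫ Δ = 𝟙 A :=
      ⟨hB.desc (𝟙 A) (𝟙 A) rfl, hB.inl_desc _ _ _, hB.inr_desc _ _ _⟩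
    exact ⟨op B, op T, ι₁.op, ι₂.op, by rw [← op_comp, hB.w, op_comp],
      fun {T'} f₁ f₂ h => ⟨(hB.desc f₁.unop f₂.unop (by
        rw [← Quiver.Hom.unop_op φ, ← unop_comp, ← unop_comp]
        exact congrArg Quiver.Hom.unop h)).op,
        Quiver.Hom.unop_inj (hB.inl_desc _ _ _), Quiver.Hom.unop_inj (hB.inr_desc _ _ _)⟩,
      Δ.op, by rw [← op_comp, hΔ₁]; rfl, by rw [← op_comp, hΔ₂]; rfl,
      κ₁.op, κ₂₃.op ≫ ι₁.op, κ₂₃.op ≫ ι₂.op, κ₂₃.op, rfl, rfl,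
      q₁₂.op, by rw [← op_comp, h12], by rw [← op_comp, h12']; rfl,
      q₁₃.op, by rw [← op_comp, h13], by rw [← op_comp, h13']; rfl,
      H B T ι₁ ι₂ κ₁ κ₂₃ q₁₂ q₁₃ hB hT h12 h12' h13 h13' Δ hΔ₁ hΔ₂⟩

variable (p : ℕ) [Fact p.Prime] (n : ℕ)

theorem solv_pos {R A : CommRingCat.{u}} {φ : R ⟶ A}
    (hφ : letI := φ.hom.toAlgebra; Module.FaithfullyFlat R A) (h : 0 < n)
    (hpR : IsNilpotent (p : R))
    (B T : CommRingCat.{u}) (ι₁ ι₂ : A ⟶ B) (κ₁ : A ⟶ T) (κ₂₃ q₁₂ q₁₃ : B ⟶ T)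
    (hB : IsPushout φ φ ι₁ ι₂) (hT : IsPushout φ (φ ≫ ι₁) κ₁ κ₂₃)
    (h12 : ι₁ ≫ q₁₂ = κ₁) (h12' : ι₂ ≫ q₁₂ = ι₁ ≫ κ₂₃)
    (h13 : ι₁ ≫ q₁₃ = κ₁) (h13' : ι₂ ≫ q₁₃ = ι₂ ≫ κ₂₃) (Δ : B ⟶ A) (hΔ₁ : ι₁ ≫ Δ = 𝟙 A)
    (hΔ₂ : ι₂ ≫ Δ = 𝟙 A) :
    Solv (unopUnop CommRingCat.{u} ⋙ wittTrunc p n) φ.op ι₁.op ι₂.op Δ.op κ₂₃.op q₁₂.op q₁₃.op := by
  intro M P Q _ _ _ iM iP iQ a₁ ha₁ a₂ ha₂ b₁₂ hb₁₂ b₁₃ hb₁₃ b₂₃ hb₂₃ c11 c12 c13 t₀ ht₀ ht₁ ht₂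
    hMf hMp
  exact exists_of_maps (p := p) (n := n) (φ := φ) iM iP iQ hφ hB hT
    h12 h12' h13 h13' hΔ₁ hΔ₂ a₁ ha₁ a₂ ha₂ b₁₂ hb₁₂ b₁₃ hb₁₃ b₂₃ hb₂₃ c11 c12 c13
    t₀ ht₀ ht₁ ht₂ h hpR hMf hMp

omit [Fact p.Prime] in
theorem subsingleton_zero (A : Type*) [CommRing A] : Subsingleton (TruncatedWittVector p 0 A) :=
  ⟨fun _ _ => TruncatedWittVector.ext fun i => i.elim0⟩

theorem isBC_of_subsingleton {R A M P : Type*} [CommRing R] [CommRing A] [Subsingleton A]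
    [AddCommGroup M] [AddCommGroup P] (φ : R →+* A) (iM : Module R M) (iP : Module A P)
    (u : M →+ P) : IsBC φ iM iP u := by
  have hP : Subsingleton P := Module.subsingleton A P
  refine ⟨fun r m => Subsingleton.elim _ _, ?_⟩
  let _ : Algebra R A := φ.toAlgebra
  have hQ : Subsingleton (A ⊗[R] M) := Module.subsingleton A (A ⊗[R] M)
  exact ⟨fun x y _ => Subsingleton.elim (α := A ⊗[R] M) x y, fun y => ⟨0, Subsingleton.elim _ _⟩⟩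

theorem solv_zero {R A : CommRingCat.{u}} {φ : R ⟶ A}
    (B T : CommRingCat.{u}) (ι₁ ι₂ : A ⟶ B) (κ₂₃ q₁₂ q₁₃ : B ⟶ T) (Δ : B ⟶ A) :
    Solv (unopUnop CommRingCat.{u} ⋙ wittTrunc p 0) φ.op ι₁.op ι₂.op Δ.op κ₂₃.op q₁₂.op q₁₃.op := by
  intro M P Q _ _ _ iM iP iQ a₁ ha₁ a₂ ha₂ b₁₂ hb₁₂ b₁₃ hb₁₃ b₂₃ hb₂₃ c11 c12 c13 t₀ ht₀ ht₁ ht₂
    hMf hMp
  refine ⟨ModuleCat.of _ PUnit.{u + 1}, inferInstanceAs (Module.Finite _ PUnit.{u + 1}), ?_, 0, ?_,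
    fun l => ?_⟩
  · exact inferInstanceAs (Module.Projective _ PUnit.{u + 1})
  · have : Subsingleton ((unopUnop CommRingCat.{u} ⋙ wittTrunc p 0).obj (op (op A))) :=
      subsingleton_zero p A
    exact isBC_of_subsingleton _ _ _ _
  · rw [AddMonoidHom.zero_apply, map_zero, map_zero]

theorem good0 {R A : CommRingCat.{u}} {φ : R ⟶ A}
    (hφ : letI := φ.hom.toAlgebra; Module.FaithfullyFlat R A)
    (hpR : IsNilpotent (p : R)) : Good (sec (wittTrunc p n)) φ.op := by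
  apply good_of_solv
  intro B T ι₁ ι₂ κ₁ κ₂₃ q₁₂ q₁₃ hB hT h12 h12' h13 h13' Δ hΔ₁ hΔ₂
  rcases Nat.eq_zero_or_pos n with rfl | hn
  · exact solv_zero p B T ι₁ ι₂ κ₂₃ q₁₂ q₁₃ Δ
  · exact solv_pos p n hφ hn hpR B T ι₁ ι₂ κ₁ κ₂₃ q₁₂ q₁₃ hB hT h12 h12' h13 h13' Δ hΔ₁ hΔ₂

open K673.FFWitt

theorem good1 (R R' : Type u) [CommRing R] [CommRing R'] [Algebra R R'] [Module.FaithfullyFlat R R']
    (hpR : IsNilpotent (p : R)) :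
    Good (secW p n) (CommRingCat.ofHom (algebraMap R R')).op :=
  good0 p n (φ := CommRingCat.ofHom (algebraMap R R'))
    (by
      have h : (CommRingCat.ofHom (algebraMap R R')).hom.toAlgebra = ‹Algebra R R'› :=
        Algebra.algebra_ext _ _ fun _ => rfl
      rw [h]
      infer_instance) hpR

theorem main0 (R R' : Type u) [CommRing R] [CommRing R'] [Algebra R R'] [Module.FaithfullyFlat R R']
    (hpR : IsNilpotent (p : R))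
    (D : (wittModPF.{u} p n).DescentData
      (fun _ : PUnit.{u + 1} => (CommRingCat.ofHom (algebraMap R R')).op))
    (hMf : Module.Finite ((secW p n).O.obj (op (op (CommRingCat.of R'))))
      (((secW p n).Γ (op (CommRingCat.of R'))).obj (dObj D)))
    (hMp : Module.Projective ((secW p n).O.obj (op (op (CommRingCat.of R'))))
      (((secW p n).Γ (op (CommRingCat.of R'))).obj (dObj D))) :
    ∃ G : (wittModPF.{u} p n).obj (.mk (op (op (CommRingCat.of R)))),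
      Module.Finite ((secW p n).O.obj (op (op (CommRingCat.of R))))
        (((secW p n).Γ (op (CommRingCat.of R))).obj G) ∧
      Module.Projective ((secW p n).O.obj (op (op (CommRingCat.of R))))
        (((secW p n).Γ (op (CommRingCat.of R))).obj G) ∧
      Nonempty (((wittModPF.{u} p n).toDescentData
        (fun _ : PUnit.{u + 1} => (CommRingCat.ofHom (algebraMap R R')).op)).obj G ≅ D) :=
  Good.eff (good1 p n R R' hpR) D hMf hMp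

end witt

end K673.EffWitt
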