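import Groth.Agent.CAlg.K673.WittFil
import Mathlib.RingTheory.Flat.FaithfullyFlat.Algebra
import Mathlib.RingTheory.Flat.Basic

/-!
# The equalizer of `W_n(R') ⇉ W_n(R' ⊗_R R')` is `W_n(R)` for `R → R'` faithfully flat
-/

set_option autoImplicit false

open scoped TensorProduct

namespace K673.WittEq

/-- the degree 0 and 1 part of the Amitsur complex -/
theorem mem_range_of_tmul_eq {R A : Type*} [CommRing R] [CommRing A] [Algebra R A]
    [Module.FaithfullyFlat R A] (x : A) (hx : x ⊗ₜ[R] (1 : A) = 1 ⊗ₜ[R] x) :
    ∃ r, algebraMap R A r = x := by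
  let q : A →ₗ[R] A ⧸ LinearMap.range (Algebra.linearMap R A) := (LinearMap.range _).mkQ
  have h1 : (1 : A) ⊗ₜ[R] q x = 0 := by
    have h2 := congrArg (LinearMap.lTensor A q) hx
    rw [LinearMap.lTensor_tmul, LinearMap.lTensor_tmul] at h2
    rw [← h2]
    have h3 : q 1 = 0 := (Submodule.Quotient.mk_eq_zero _).2 ⟨1, (algebraMap R A).map_one⟩
    rw [h3, TensorProduct.tmul_zero]
  have h4 : q x = 0 := by
    have := Module.FaithfullyFlat.tensorProduct_mk_injective (A := R) (B := A)
      (A ⧸ LinearMap.range (Algebra.linearMap R A))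
    exact this (h1.trans (TensorProduct.tmul_zero _ _).symm)
  exact (Submodule.Quotient.mk_eq_zero _).1 h4

variable {p : ℕ} [Fact p.Prime] {n : ℕ} {R A : Type*} [CommRing R] [CommRing A] [Algebra R A]
    [Module.FaithfullyFlat R A]

theorem exists_of_truncMap_eq (x : TruncatedWittVector p n A)
    (hx : WittGrp.truncMap p n (Algebra.TensorProduct.includeLeftRingHom : A →+* A ⊗[R] A) x =
      WittGrp.truncMap p n ((Algebra.TensorProduct.includeRight : A →ₐ[R] A ⊗[R] A) : A →+* A ⊗[R] A) x) :
    ∃ y, WittGrp.truncMap p n (algebraMap R A) y = x := by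
  have h : ∀ i, ∃ r, algebraMap R A r = x.coeff i := fun i => by
    apply mem_range_of_tmul_eq
    have := congrArg (TruncatedWittVector.coeff i) hx
    rwa [WittGrp.coeff_truncMap, WittGrp.coeff_truncMap] at this
  choose r hr using h
  refine ⟨TruncatedWittVector.mk p r, TruncatedWittVector.ext fun i => ?_⟩
  rw [WittGrp.coeff_truncMap, TruncatedWittVector.coeff_mk, hr]

theorem truncMap_injective {R A : Type*} [CommRing R] [CommRing A] (f : R →+* A)
    (hf : Function.Injective f) : Function.Injective (WittGrp.truncMap p n f) := by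
  intro x y h
  refine TruncatedWittVector.ext fun i => hf ?_
  have := congrArg (TruncatedWittVector.coeff i) h
  rwa [WittGrp.coeff_truncMap, WittGrp.coeff_truncMap] at this

end K673.WittEq
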