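import Groth.Agent.CAlg.K673.GPF
import Groth.Prelude.Def_W4c3truncdispsmoothDesc
import Groth.Agent.Desc.SecFF
import Groth.Agent.CAlg.K673.WittEq

/-!
# Equalizer exactness for flat modules in `IsBC` form; full faithfulness of truncated Witt descent
-/

set_option autoImplicit false
set_option backward.isDefEq.respectTransparency false
set_option backward.isDefEq.respectTransparency.types false
open CategoryTheory Opposite TensorProduct
universe u

namespace K673.FFCore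

open Groth.Agent.Desc.SecD Groth.Agent

theorem eq_exact {R A B : Type*} [CommRing R] [CommRing A] [CommRing B] (φ : R →+* A) (g : R →+* B)
    (ψ₁ ψ₂ : A →+* B) (h₁ : ψ₁.comp φ = g) (h₂ : ψ₂.comp φ = g)
    (hex : ∀ a, ψ₁ a = ψ₂ a → ∃ r, φ r = a) (hinj : Function.Injective φ)
    {N P Q : Type*} [AddCommGroup N] [AddCommGroup P] [AddCommGroup Q] [iN : Module R N]
    [iP : Module A P] [iQ : Module B Q] [Module.Flat R N] (u : N →+ P) (hu : IsBC φ iN iP u)
    (v : N →+ Q) (hv : IsBC g iN iQ v) (θ₁ θ₂ : P →+ Q)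
    (hθ₁ : ∀ a n, θ₁ (a • u n) = ψ₁ a • v n) (hθ₂ : ∀ a n, θ₂ (a • u n) = ψ₂ a • v n) :
    Function.Injective u ∧ ∀ y, θ₁ y = θ₂ y → ∃ n, u n = y := by
  let _ : Algebra R A := φ.toAlgebra
  let _ : Algebra R B := g.toAlgebra
  obtain ⟨hus, hub⟩ := hu
  obtain ⟨hvs, hvb⟩ := hv
  let κ : A ⊗[R] N ≃ₗ[A] P := LinearEquiv.ofBijective (VarietyB.BCAlg.bc
      (⟨⟨u, map_add u⟩, hus⟩ : N →ₛₗ[algebraMap R A] P)) hub
  have hκ : ∀ a n, κ (a ⊗ₜ[R] n) = a • u n := fun a n => VarietyB.BCAlg.bc_tmul _ _ _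
  let μ : B ⊗[R] N ≃ₗ[B] Q := LinearEquiv.ofBijective (VarietyB.BCAlg.bc
      (⟨⟨v, map_add v⟩, hvs⟩ : N →ₛₗ[algebraMap R B] Q)) hvb
  have hμ : ∀ b n, μ (b ⊗ₜ[R] n) = b • v n := fun a n => VarietyB.BCAlg.bc_tmul _ _ _
  let Ψ₁ : A →ₗ[R] B :=
    { toFun := ψ₁, map_add' := map_add ψ₁
      map_smul' := fun r a => by
        change ψ₁ (φ r * a) = g r * ψ₁ a
        rw [map_mul, ← h₁]; rfl }
  let Ψ₂ : A →ₗ[R] B :=
    { toFun := ψ₂, map_add' := map_add ψ₂
      map_smul' := fun r a => by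
        change ψ₂ (φ r * a) = g r * ψ₂ a
        rw [map_mul, ← h₂]; rfl }
  have hexa : Function.Exact (Algebra.linearMap R A) (Ψ₁ - Ψ₂) := by
    intro a
    constructor
    · intro ha
      exact hex a (sub_eq_zero.1 ha)
    · rintro ⟨r, rfl⟩
      change ψ₁ (φ r) - ψ₂ (φ r) = 0
      rw [← RingHom.comp_apply, ← RingHom.comp_apply, h₁, h₂, sub_self]
  have key₁ : ∀ x, μ (LinearMap.rTensor N Ψ₁ x) = θ₁ (κ x) := by
    intro x
    induction x with
    | zero => simp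
    | add x y hx hy => simp only [map_add, hx, hy]
    | tmul a n => rw [LinearMap.rTensor_tmul, hμ, hκ, hθ₁]; rfl
  have key₂ : ∀ x, μ (LinearMap.rTensor N Ψ₂ x) = θ₂ (κ x) := by
    intro x
    induction x with
    | zero => simp
    | add x y hx hy => simp only [map_add, hx, hy]
    | tmul a n => rw [LinearMap.rTensor_tmul, hμ, hκ, hθ₂]; rfl
  have hlid : ∀ n, κ (LinearMap.rTensor N (Algebra.linearMap R A) ((TensorProduct.lid R N).symm n)) =
      u n := by
    intro n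
    rw [TensorProduct.lid_symm_apply, LinearMap.rTensor_tmul, hκ, Algebra.linearMap_apply, map_one,
      one_smul]
  constructor
  · intro n n' h
    rw [← hlid n, ← hlid n'] at h
    exact (TensorProduct.lid R N).symm.injective
      (Module.Flat.rTensor_preserves_injective_linearMap (M := N) (Algebra.linearMap R A) hinj
        (κ.injective h))
  · intro y hy
    obtain ⟨x, rfl⟩ := κ.surjective y
    have h3 : LinearMap.rTensor N (Ψ₁ - Ψ₂) x = 0 := by
      rw [LinearMap.rTensor_sub, LinearMap.sub_apply, sub_eq_zero]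
      apply μ.injective
      rw [key₁, key₂, hy]
    obtain ⟨z, hz⟩ := (Module.Flat.rTensor_exact N hexa x).1 h3
    refine ⟨TensorProduct.lid R N z, ?_⟩
    rw [← hlid, LinearEquiv.symm_apply_apply, hz]


open Pseudofunctor Bicategory SecData

section FF

universe w t v' v u₁ u'

variable {C : Type u₁} [Category.{v} C] {F : Pseudofunctor (LocallyDiscrete Cᵒᵖ) Cat.{v', u'}}
  (σ : SecData.{w} F) {X S Y : C} {f : X ⟶ S}

/-- **Full faithfulness of descent of modules**, abstract form, from the exactness for the target. -/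
theorem map_bijective_of_exact (G G' : F.obj (.mk (op S))) (hG : σ.Free f G)
    (hff : ∀ (s : (σ.Γ S).obj G →+ (σ.Γ S).obj G'),
      (∀ (r : σ.O.obj (op S)) (g : (σ.Γ S).obj G), s (r • g) = r • s g) →
      ∃! φ : G ⟶ G', ∀ g, ((σ.Γ S).map φ).hom g = s g)
    (p₁ p₂ : Y ⟶ X) (hp : p₁ ≫ f = p₂ ≫ f)
    (hinj : Function.Injective (σ.unit f G'))
    (hexact : ∀ y : (σ.Γ X).obj ((F.map f.op.toLoc).toFunctor.obj G'),
      σ.trans f p₁ (p₂ ≫ f) hp G' y = σ.trans f p₂ (p₂ ≫ f) rfl G' y → ∃ m, σ.unit f G' m = y) :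
    Function.Bijective (fun φ : G ⟶ G' =>
      (F.toDescentData (fun _ : PUnit.{t + 1} => f)).map φ) := by
  constructor
  · intro φ₁ φ₂ h
    have h1 : (F.map f.op.toLoc).toFunctor.map φ₁ = (F.map f.op.toLoc).toFunctor.map φ₂ :=
      congrArg (fun k => k.hom PUnit.unit) h
    have h2 : ∀ g : (σ.Γ S).obj G, ((σ.Γ S).map φ₁).hom g = ((σ.Γ S).map φ₂).hom g := by
      intro g
      apply hinj
      rw [← σ.map_unit, ← σ.map_unit, h1]
    obtain ⟨φ, -, hφ⟩ := hff ((σ.Γ S).map φ₁).hom.toAddMonoidHom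
      (fun r g => map_smul ((σ.Γ S).map φ₁).hom r g)
    rw [hφ φ₁ (fun _ => rfl), hφ φ₂ (fun g => (h2 g).symm)]
  · intro α
    obtain ⟨a, ha⟩ : ∃ a : (F.map f.op.toLoc).toFunctor.obj G ⟶
        (F.map f.op.toLoc).toFunctor.obj G', a = α.hom PUnit.unit := ⟨_, rfl⟩
    have hex : ∀ g : (σ.Γ S).obj G, ∃ m : (σ.Γ S).obj G', σ.unit f G' m =
        ((σ.Γ X).map a).hom (σ.unit f G g) := by
      intro g
      exact hexact _ (σ.trans_eq_trans a p₁ p₂ (p₂ ≫ f) hp rfl (comm_of_hom α p₁ p₂ _ hp rfl a ha) g)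
    choose s hs using hex
    let s' : (σ.Γ S).obj G →+ (σ.Γ S).obj G' :=
      { toFun := s
        map_zero' := hinj (by rw [hs, map_zero, map_zero, map_zero])
        map_add' := fun a b => hinj (by rw [hs, map_add, map_add, map_add, hs, hs]) }
    obtain ⟨φ, hφ, -⟩ := hff s' (fun r g => hinj (by
      change σ.unit f G' (s (r • g)) = σ.unit f G' (r • s g)
      rw [hs, σ.unit_smul, map_smul, σ.unit_smul, hs]))
    refine ⟨φ, ?_⟩
    apply DescentData.hom_ext
    intro i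
    obtain rfl : i = PUnit.unit := rfl
    change (F.map f.op.toLoc).toFunctor.map φ = _
    rw [← ha]
    apply hG.ext f
    intro g
    rw [σ.map_unit, hφ]
    exact hs g

/-- exactness for a target with flat sections -/
theorem exact_of_flat (G' : F.obj (.mk (op S))) (p₁ p₂ : Y ⟶ X) (hp : p₁ ≫ f = p₂ ≫ f)
    (hflat : Module.Flat (σ.O.obj (op S)) ((σ.Γ S).obj G'))
    (hbc : IsBC (σ.O.map f.op).hom inferInstance inferInstance (σ.unit f G'))
    (hbc' : IsBC (σ.O.map (p₂ ≫ f).op).hom inferInstance inferInstance (σ.unit (p₂ ≫ f) G'))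
    (hO : ∀ a, (σ.O.map p₁.op).hom a = (σ.O.map p₂.op).hom a → ∃ r, (σ.O.map f.op).hom r = a)
    (hOi : Function.Injective (σ.O.map f.op).hom) :
    Function.Injective (σ.unit f G') ∧
    ∀ y : (σ.Γ X).obj ((F.map f.op.toLoc).toFunctor.obj G'),
      σ.trans f p₁ (p₂ ≫ f) hp G' y = σ.trans f p₂ (p₂ ≫ f) rfl G' y → ∃ m, σ.unit f G' m = y :=
  eq_exact (σ.O.map f.op).hom (σ.O.map (p₂ ≫ f).op).hom (σ.O.map p₁.op).hom (σ.O.map p₂.op).hom
    (by rw [← CommRingCat.hom_comp, ← Functor.map_comp, ← op_comp, hp])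
    (by rw [← CommRingCat.hom_comp, ← Functor.map_comp, ← op_comp])
    hO hOi (σ.unit f G') hbc (σ.unit (p₂ ≫ f) G') hbc'
    (σ.trans f p₁ (p₂ ≫ f) hp G') (σ.trans f p₂ (p₂ ≫ f) rfl G')
    (fun a m => by rw [σ.trans_smul, σ.trans_unit])
    (fun a m => by rw [σ.trans_smul, σ.trans_unit])

/-- all hypotheses of `map_bijective_of_exact` -/
structure FFHyp (f : X ⟶ S) (G G' : F.obj (.mk (op S))) (p₁ p₂ : Y ⟶ X) : Prop where
  hG : σ.Free f G
  hff : ∀ (s : (σ.Γ S).obj G →+ (σ.Γ S).obj G'),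
      (∀ (r : σ.O.obj (op S)) (g : (σ.Γ S).obj G), s (r • g) = r • s g) →
      ∃! φ : G ⟶ G', ∀ g, ((σ.Γ S).map φ).hom g = s g
  hp : p₁ ≫ f = p₂ ≫ f
  hinj : Function.Injective (σ.unit f G')
  hexact : ∀ y : (σ.Γ X).obj ((F.map f.op.toLoc).toFunctor.obj G'),
      σ.trans f p₁ (p₂ ≫ f) hp G' y = σ.trans f p₂ (p₂ ≫ f) rfl G' y → ∃ m, σ.unit f G' m = y

theorem FFHyp.bijective {σ : SecData.{w} F} {G G' : F.obj (.mk (op S))} {p₁ p₂ : Y ⟶ X}
    (h : FFHyp σ f G G' p₁ p₂) :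
    Function.Bijective (fun φ : G ⟶ G' =>
      (F.toDescentData (fun _ : PUnit.{t + 1} => f)).map φ) :=
  map_bijective_of_exact σ G G' h.hG h.hff p₁ p₂ h.hp h.hinj h.hexact

end FF

end K673.FFCore
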