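import Mathlib.RingTheory.Finiteness.Descent
import Mathlib.Algebra.Module.FinitePresentation
import Mathlib.RingTheory.Flat.EquationalCriterion
import Mathlib.RingTheory.Flat.FaithfullyFlat.Algebra

/-!
# Faithfully flat descent of finite projective modules (copy of the lemma in S3822, light imports)
-/

set_option autoImplicit false
universe u
open scoped TensorProduct

namespace K673.FPDesc

/-- Finite projective modules descend along faithfully flat ring maps. -/
theorem finite_projective_descends (R T M : Type u) [CommRing R] [CommRing T] [Algebra R T]
    [AddCommGroup M] [Module R M] [Module.FaithfullyFlat R T] [Module.Finite T (T ⊗[R] M)]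
    [Module.Projective T (T ⊗[R] M)] : Module.Projective R M ∧ Module.Finite R M := by
  have hfin : Module.Finite R M := Module.Finite.of_finite_tensorProduct_of_faithfullyFlat T
  have hflat : Module.Flat R M := Module.Flat.of_flat_tensorProduct R M T
  refine ⟨?_, hfin⟩
  obtain ⟨n, π, hπ⟩ := Module.Finite.exists_fin' R M
  have hker : Module.Finite R (LinearMap.ker π) := by
    have : Module.Finite T (T ⊗[R] (LinearMap.ker π)) := by
      have hfp : Module.FinitePresentation T (T ⊗[R] M) :=
        Module.finitePresentation_of_projective _ _
      have hsurj : Function.Surjective (π.baseChange T) := LinearMap.lTensor_surjective T hπ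
      have hfg := Module.FinitePresentation.fg_ker (π.baseChange T) hsurj
      have hinj : Function.Injective ((LinearMap.ker π).subtype.baseChange T) :=
        Module.Flat.lTensor_preserves_injective_linearMap (LinearMap.ker π).subtype
          (Submodule.injective_subtype _)
      have hex : LinearMap.ker (π.baseChange T) =
          LinearMap.range ((LinearMap.ker π).subtype.baseChange T) := by
        have := lTensor_exact (f := (LinearMap.ker π).subtype) (g := π) T
          (LinearMap.exact_subtype_ker_map π) hπ
        ext x
        exact this x
      rw [hex, ← Module.Finite.iff_fg] at hfg
      exact Module.Finite.equiv (LinearEquiv.ofInjective _ hinj).symm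
    exact Module.Finite.of_finite_tensorProduct_of_faithfullyFlat T
  have hfp : Module.FinitePresentation R M :=
    Module.finitePresentation_of_surjective π hπ ((Module.Finite.iff_fg).mp hker)
  exact Module.Flat.projective_of_finitePresentation

end K673.FPDesc
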