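import Mathlib.Algebra.Category.ModuleCat.Pseudofunctor
import Groth.Agent.Desc.SecData4

/-!
# Element-level formulas for the pseudofunctor `R ↦ Mod G(R)`, `G` an endofunctor of commutative rings; its sections
-/

set_option autoImplicit false
set_option backward.isDefEq.respectTransparency false
set_option backward.isDefEq.respectTransparency.types false
open CategoryTheory Opposite TensorProduct
universe u

namespace K673.GPF

variable {G : CommRingCat.{u} ⥤ CommRingCat.{u}}
variable {A B C : CommRingCat.{u}ᵒᵖ}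

variable (G) in
/-- the ring `G(A)` as an object -/
noncomputable abbrev WR (A : CommRingCat.{u}ᵒᵖ) : CommRingCat.{u} :=
  G.obj A.unop

variable (G) in
/-- the ring map `G(A) → G(B)` -/
noncomputable abbrev WM {A B : CommRingCat.{u}ᵒᵖ} (f : B ⟶ A) : WR G A →+* WR G B :=
  (G.map f.unop).hom

variable (G) in
/-- the pseudofunctor `R ↦ Mod G(R)` on `(CommRingCatᵒᵖ)ᵒᵖ`. -/
noncomputable def gPF : Pseudofunctor (LocallyDiscrete (CommRingCat.{u}ᵒᵖ)ᵒᵖ) Cat.{u, u + 1} :=
  ((unopUnop CommRingCat.{u}) ⋙ G).toPseudofunctor.comp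
    CommRingCat.moduleCatExtendScalarsPseudofunctor.{u}

/-- the pullback of a module along a morphism of `CommRingCatᵒᵖ`. -/
noncomputable abbrev pb (f : B ⟶ A) (M : ModuleCat.{u} (WR G A)) : ModuleCat.{u} (WR G B) :=
  (ModuleCat.extendScalars (WM G f)).obj M

open scoped ChangeOfRings in
/-- the unit `m ↦ 1 ⊗ m`. -/
noncomputable def unit (f : B ⟶ A) (M : ModuleCat.{u} (WR G A)) (m : M) : pb f M :=
  (1 : WR G B) ⊗ₜ[WR G A, WM G f] m

theorem pb_ext (f : B ⟶ A) (M : ModuleCat.{u} (WR G A)) {N : ModuleCat.{u} (WR G B)}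
    {α β : pb f M ⟶ N} (h : ∀ m, α.hom (unit f M m) = β.hom (unit f M m)) : α = β :=
  ModuleCat.ExtendScalars.hom_ext h

theorem unit_add (f : B ⟶ A) (M : ModuleCat.{u} (WR G A)) (m m' : M) :
    unit f M (m + m') = unit f M m + unit f M m' :=
  TensorProduct.tmul_add _ _ _

theorem unit_zero (f : B ⟶ A) (M : ModuleCat.{u} (WR G A)) :
    unit f M 0 = 0 :=
  TensorProduct.tmul_zero _ _

open scoped ChangeOfRings in
theorem smul_unit (f : B ⟶ A) (M : ModuleCat.{u} (WR G A)) (b : WR G B) (m : M) :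
    b • unit f M m = b ⊗ₜ[WR G A, WM G f] m := by
  rw [unit, ModuleCat.ExtendScalars.smul_tmul, mul_one]

open scoped ChangeOfRings in
theorem unit_smul (f : B ⟶ A) (M : ModuleCat.{u} (WR G A)) (a : WR G A) (m : M) :
    unit f M (a • m) = WM G f a • unit f M m := by
  rw [smul_unit]
  let : Module (WR G A) (WR G B) := Module.compHom (WR G B) (WM G f)
  have h : WM G f a = a • (1 : WR G B) := by
    change _ = WM G f a * 1
    rw [mul_one]
  rw [h, unit]
  exact (TensorProduct.smul_tmul a (1 : WR G B) m).symm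

/-- induction principle: `pb f M` is generated by the `unit f M m`. -/
theorem pb_induction (f : B ⟶ A) (M : ModuleCat.{u} (WR G A)) {P : pb f M → Prop}
    (h0 : P 0) (hadd : ∀ x y, P x → P y → P (x + y))
    (h : ∀ (b : WR G B) (m : M), P (b • unit f M m)) (x : pb f M) : P x := by
  refine TensorProduct.induction_on x h0 (fun b m => ?_) hadd
  have := h b m
  rwa [smul_unit] at this

theorem map_unit (f : B ⟶ A) {M N : ModuleCat.{u} (WR G A)} (φ : M ⟶ N) (m : M) :
    ((ModuleCat.extendScalars (WM G f)).map φ).hom (unit f M m) = unit f N (φ.hom m) := rfl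

section mapComp

variable (f : B ⟶ A) (g : C ⟶ B)

theorem mapComp_hom_app (M : ModuleCat.{u} (WR G A)) :
    ((gPF.{u} G).mapComp f.op.toLoc g.op.toLoc).hom.toNatTrans.app M =
      (CommRingCat.moduleCatExtendScalarsPseudofunctor.{u}.map₂
        (((unopUnop CommRingCat.{u} ⋙ G).toPseudofunctor).mapComp
          f.op.toLoc g.op.toLoc).hom).toNatTrans.app M ≫
      (ModuleCat.extendScalarsComp (WM G f) (WM G g)).hom.app M := by
  simp only [gPF, Pseudofunctor.comp_mapComp, Iso.trans_hom,
    Cat.Hom.toNatTrans_comp, NatTrans.comp_app]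
  rfl

open scoped ChangeOfRings in
theorem map₂_app_unit {R S : CommRingCat.{u}} {f g : R ⟶ S} (h : f = g) (η : f.toLoc ⟶ g.toLoc)
    (M : ModuleCat.{u} R) (m : M) :
    (show (ModuleCat.extendScalars f.hom).obj M ⟶ (ModuleCat.extendScalars g.hom).obj M from
      (CommRingCat.moduleCatExtendScalarsPseudofunctor.{u}.map₂ η).toNatTrans.app M).hom
      ((1 : S) ⊗ₜ[R, f.hom] m) = (1 : S) ⊗ₜ[R, g.hom] m := by
  subst h
  have : η = 𝟙 _ := Subsingleton.elim _ _
  subst this
  have h2 : CommRingCat.moduleCatExtendScalarsPseudofunctor.{u}.map₂ (𝟙 f.toLoc) = 𝟙 _ :=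
    (CommRingCat.moduleCatExtendScalarsPseudofunctor.{u}).map₂_id _
  rw [h2]
  rfl

theorem mapComp_hom_app_unit (M : ModuleCat.{u} (WR G A)) (m : M) :
    (show pb (g ≫ f) M ⟶ pb g (pb f M) from
      (((gPF.{u} G).mapComp f.op.toLoc g.op.toLoc).hom.toNatTrans.app M)).hom
      (unit (g ≫ f) M m) = unit g (pb f M) (unit f M m) := by
  rw [mapComp_hom_app]
  have h := map₂_app_unit (f := (G).map (g ≫ f).unop)
    (g := (G).map f.unop ≫ (G).map g.unop)
    (by rw [← Functor.map_comp]; rfl)
    (((unopUnop CommRingCat.{u} ⋙ G).toPseudofunctor).mapComp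
          f.op.toLoc g.op.toLoc).hom M m
  refine (congrArg (fun t => ((ModuleCat.extendScalarsComp (WM G f) (WM G g)).hom.app M).hom t)
    h).trans ?_
  exact ModuleCat.extendScalarsComp_hom_app_one_tmul (WM G f) (WM G g) M m

end mapComp

open Pseudofunctor Groth.Agent.Desc.SecD

/-- `unit` as an additive map -/
noncomputable def unitHom (f : B ⟶ A) (M : ModuleCat.{u} (WR G A)) :
    M →+ pb f M where
  toFun := unit f M
  map_zero' := unit_zero f M
  map_add' := unit_add f M

variable (G) in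
/-- `gPF` with sections. -/
noncomputable def sec : SecData.{u} (gPF.{u} G) where
  O := unopUnop CommRingCat.{u} ⋙ G
  Γ X := 𝟭 (ModuleCat.{u} (WR G X))
  unit f M := unitHom f M
  unit_smul f M a m := unit_smul f M a m
  map_unit f _ _ φ m := map_unit f φ m
  mapComp_unit f g M m := mapComp_hom_app_unit f g M m

theorem isBC_unitHom (f : B ⟶ A) (M : ModuleCat.{u} (WR G A)) :
    IsBC (WM G f) inferInstance inferInstance (unitHom f M) := by
  refine ⟨unit_smul f M, ?_⟩
  let _ : Algebra (WR G A) (WR G B) := (WM G f).toAlgebra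
  have h : (Groth.Agent.VarietyB.BCAlg.bc (⟨⟨unitHom f M, map_add _⟩, unit_smul f M⟩ :
      M →ₛₗ[algebraMap (WR G A) (WR G B)] pb f M) : _ → _) = _root_.id := by
    funext x
    induction x with
    | zero => exact map_zero _
    | add x y hx hy =>
      rw [map_add, hx, hy]
      rfl
    | tmul b m =>
      rw [Groth.Agent.VarietyB.BCAlg.bc_tmul]
      exact smul_unit f M b m
  change Function.Bijective (Groth.Agent.VarietyB.BCAlg.bc (⟨⟨unitHom f M, map_add _⟩, unit_smul f M⟩ :
      M →ₛₗ[algebraMap (WR G A) (WR G B)] pb f M) : _ → _)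
  rw [h]
  exact Function.bijective_id

theorem exists_hom (f : B ⟶ A) (M : ModuleCat.{u} (WR G A))
    (N : ModuleCat.{u} (WR G B)) (s : M →+ N)
    (hs : ∀ (a : WR G A) (m : M), s (a • m) = WM G f a • s m) :
    ∃ ψ : pb f M ⟶ N, ∀ m, ψ.hom (unit f M m) = s m := by
  let s' : M ⟶ (ModuleCat.restrictScalars (WM G f)).obj N :=
    ModuleCat.ofHom (Y := (ModuleCat.restrictScalars (WM G f)).obj N)
      { toFun := s, map_add' := map_add s, map_smul' := hs }
  refine ⟨((ModuleCat.extendRestrictScalarsAdj (WM G f)).homEquiv _ _).symm s', fun m => ?_⟩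
  have h := (ModuleCat.extendRestrictScalarsAdj_homEquiv_apply (φ :=
    ((ModuleCat.extendRestrictScalarsAdj (WM G f)).homEquiv _ _).symm s') (m := m))
  rw [Equiv.apply_symm_apply] at h
  exact h.symm

theorem sec_free {X S : CommRingCat.{u}ᵒᵖ} (f : X ⟶ S) (N : ModuleCat.{u} (WR G S)) :
    (sec G).Free f N where
  ext h _ _ _ H := pb_ext h N H
  ex E s hs := exists_hom f N E s hs
  bc := isBC_unitHom f N

theorem isIso_of_bijective {X : CommRingCat.{u}ᵒᵖ} {M N : ModuleCat.{u} (WR G X)} (ψ : M ⟶ N)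
    (h : Function.Bijective ψ.hom) : IsIso ψ :=
  (ConcreteCategory.isIso_iff_bijective ψ).2 h

end K673.GPF
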