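import Groth.Agent.CAlg.K673.WittEq
import Groth.Agent.Desc.SecData4

/-!
# Ghost base change of a semilinear base change map; `H^1` of the Amitsur complex with coefficients
-/

set_option autoImplicit false

open TensorProduct
open scoped TensorProduct

namespace K673.GhBC

open Groth.Agent Groth.Agent.Desc.SecD

section square

variable {R S R' S' : Type*} [CommRing R] [CommRing S] [CommRing R'] [CommRing S']
  [Algebra R S] [Algebra R R'] [Algebra R S'] [Algebra S S'] [Algebra R' S']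
  [IsScalarTower R S S'] [IsScalarTower R R' S'] {M P : Type*} [AddCommGroup M] [AddCommGroup P]
  [Module R M] [Module S P] [Module R P] [IsScalarTower R S P]

theorem isBaseChange_square (u : M →ₗ[R] P) (hu : IsBaseChange S u)
    (v : R' ⊗[R] M →ₗ[R'] S' ⊗[S] P) (hv : ∀ m, v (1 ⊗ₜ m) = 1 ⊗ₜ u m) : IsBaseChange S' v := by
  have h1 : IsBaseChange R' (TensorProduct.mk R R' M 1) := TensorProduct.isBaseChange R M R'
  refine IsBaseChange.of_comp h1 ?_
  have h2 := IsBaseChange.comp hu (TensorProduct.isBaseChange S P S')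
  convert h2 using 1
  ext m
  exact hv m

end square

/-- base change of a base change map along a commutative square of rings -/
theorem isBC_square {R S R' S' : Type*} [CommRing R] [CommRing S] [CommRing R'] [CommRing S']
    [Algebra R R'] [Algebra S S'] (Φ : R →+* S) (φ : R' →+* S')
    (h : (algebraMap S S').comp Φ = φ.comp (algebraMap R R'))
    {M P : Type*} [AddCommGroup M] [AddCommGroup P] [Module R M] [Module S P]
    {u : M →+ P} (hu : IsBC Φ inferInstance inferInstance u)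
    (v : R' ⊗[R] M →+ S' ⊗[S] P) (hv : ∀ r m, v (r ⊗ₜ m) = φ r ⊗ₜ u m) :
    IsBC φ inferInstance inferInstance v := by
  let _ : Algebra R S := Φ.toAlgebra
  let _ : Algebra R' S' := φ.toAlgebra
  let _ : Algebra R S' := (φ.comp (algebraMap R R')).toAlgebra
  have _ : IsScalarTower R R' S' := .of_algebraMap_eq' rfl
  have _ : IsScalarTower R S S' := .of_algebraMap_eq' h.symm
  let _ : Module R P := Module.compHom P Φ
  have _ : IsScalarTower R S P := ⟨fun r a m => by
    change (Φ r * a) • m = Φ r • (a • m)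
    rw [mul_smul]⟩
  obtain ⟨hus, hub⟩ := hu
  let uR : M →ₗ[R] P := { toFun := u, map_add' := map_add u, map_smul' := hus }
  have hu' : IsBaseChange S uR := (VarietyB.BCAlg.isBaseChange_iff uR
    (⟨⟨u, map_add u⟩, hus⟩ : M →ₛₗ[algebraMap R S] P) (fun _ => rfl)).2 hub
  have hvs : ∀ (r : R') (m : R' ⊗[R] M), v (r • m) = φ r • v m := by
    intro r m
    induction m with
    | zero => rw [smul_zero, map_zero, smul_zero]
    | add x y hx hy => rw [smul_add, map_add, map_add, hx, hy, smul_add]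
    | tmul a m =>
      rw [TensorProduct.smul_tmul', hv, hv, TensorProduct.smul_tmul', smul_eq_mul, map_mul,
        smul_eq_mul]
  let vR : R' ⊗[R] M →ₗ[R'] S' ⊗[S] P :=
    { toFun := v, map_add' := map_add v
      map_smul' := fun r m => by
        rw [hvs]
        exact algebraMap_smul S' r (v m) }
  have hv' : IsBaseChange S' vR := isBaseChange_square uR hu' vR (fun m => by
    change v (1 ⊗ₜ m) = _
    rw [hv, map_one]
    rfl)
  exact ⟨hvs, (VarietyB.BCAlg.isBaseChange_iff vR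
    (⟨⟨v, map_add v⟩, hvs⟩ : _ →ₛₗ[algebraMap R' S'] _) (fun _ => rfl)).1 hv'⟩

/-- `H^1` of the Amitsur complex with coefficients in a module with descent datum vanishes. -/
theorem h1_vanish {R A B T : Type*} [CommRing R] [CommRing A] [CommRing B] [CommRing T]
    {φ : R →+* A} (hφ : letI := φ.toAlgebra; Module.FaithfullyFlat R A)
    {G0 G1 G2 : Type*} [AddCommGroup G0] [AddCommGroup G1] [AddCommGroup G2]
    [Module A G0] [Module B G1] [Module T G2] (ι₁ : A →+* B) (κ₁ : A →+* T)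
    (a₁ a₂ : G0 →+ G1) (b₁₂ b₁₃ b₂₃ : G1 →+ G2)
    (ha₁ : ∀ a m, a₁ (a • m) = ι₁ a • a₁ m)
    (ha₂ : IsBC φ (Module.compHom G0 φ) (Module.compHom G1 ι₁) a₂)
    (hb₂₃ : IsBC φ (Module.compHom G1 (ι₁.comp φ)) (Module.compHom G2 κ₁) b₂₃)
    (h12 : ∀ a m, b₁₂ (ι₁ a • a₂ m) = κ₁ a • b₂₃ (a₁ m))
    (h13 : ∀ a m, b₁₃ (ι₁ a • a₂ m) = κ₁ a • b₂₃ (a₂ m))
    (x : G1) (hx : b₂₃ x - b₁₃ x + b₁₂ x = 0) : ∃ e, x = a₁ e - a₂ e := by
  let _ : Algebra R A := φ.toAlgebra
  have _ : Module.FaithfullyFlat R A := hφ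
  let _ : Module R G0 := Module.compHom G0 φ
  let _ : Module A G1 := Module.compHom G1 ι₁
  let _ : Module R G1 := Module.compHom G1 (ι₁.comp φ)
  let _ : Module A G2 := Module.compHom G2 κ₁
  obtain ⟨ha₂s, ha₂b⟩ := ha₂
  obtain ⟨hbs, hbb⟩ := hb₂₃
  let κ : A ⊗[R] G0 ≃ₗ[A] G1 := LinearEquiv.ofBijective (VarietyB.BCAlg.bc
      (⟨⟨a₂, map_add a₂⟩, ha₂s⟩ : G0 →ₛₗ[algebraMap R A] G1)) ha₂b
  have hκ : ∀ a m, κ (a ⊗ₜ[R] m) = ι₁ a • a₂ m := fun a m => VarietyB.BCAlg.bc_tmul _ _ _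
  let κ₃ : A ⊗[R] G1 ≃ₗ[A] G2 := LinearEquiv.ofBijective (VarietyB.BCAlg.bc
      (⟨⟨b₂₃, map_add b₂₃⟩, hbs⟩ : G1 →ₛₗ[algebraMap R A] G2)) hbb
  have hκ₃ : ∀ a m, κ₃ (a ⊗ₜ[R] m) = κ₁ a • b₂₃ m := fun a m => VarietyB.BCAlg.bc_tmul _ _ _
  let d : G0 →ₗ[R] G1 :=
    { toFun := fun m => a₁ m - a₂ m
      map_add' := fun m m' => by rw [map_add, map_add]; abel
      map_smul' := fun r m => by
        have h1 : a₁ (r • m) = r • a₁ m := ha₁ (φ r) m
        have h2 : a₂ (r • m) = r • a₂ m := ha₂s r m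
        rw [h1, h2, RingHom.id_apply, smul_sub] }
  have key : ∀ z, κ₃ (LinearMap.lTensor A d z) = b₁₂ (κ z) - b₁₃ (κ z) := by
    intro z
    induction z with
    | zero => simp
    | add x y hx hy => simp only [map_add, hx, hy]; abel
    | tmul a m =>
      rw [LinearMap.lTensor_tmul, hκ₃, hκ, h12, h13]
      change κ₁ a • b₂₃ (a₁ m - a₂ m) = _
      rw [map_sub, smul_sub]
  let y : A ⊗[R] G0 := κ.symm (-x)
  have hy : LinearMap.lTensor A d y = 1 ⊗ₜ[R] x := by
    apply κ₃.injective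
    rw [key, hκ₃, map_one, one_smul]
    change b₁₂ (κ (κ.symm (-x))) - b₁₃ (κ (κ.symm (-x))) = _
    rw [LinearEquiv.apply_symm_apply, map_neg, map_neg, ← sub_eq_zero]
    rw [← neg_eq_zero, ← hx]
    abel
  let q : G1 →ₗ[R] G1 ⧸ LinearMap.range d := (LinearMap.range d).mkQ
  have h1 : (1 : A) ⊗ₜ[R] q x = 0 := by
    rw [← LinearMap.lTensor_tmul, ← hy, ← LinearMap.comp_apply, ← LinearMap.lTensor_comp]
    have h2 : q ∘ₗ d = 0 := by
      ext m
      exact (Submodule.Quotient.mk_eq_zero _).2 ⟨m, rfl⟩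
    rw [h2, LinearMap.lTensor_zero, LinearMap.zero_apply]
  have h4 : q x = 0 :=
    Module.FaithfullyFlat.tensorProduct_mk_injective (A := R) (B := A)
      (G1 ⧸ LinearMap.range d) (h1.trans (TensorProduct.tmul_zero _ _).symm)
  obtain ⟨e, he⟩ := (Submodule.Quotient.mk_eq_zero _).1 h4
  exact ⟨e, he.symm⟩

end K673.GhBC
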