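import Groth.Agent.CAlg.K673.GhBC

/-!
# The graded pieces of the `V`-filtration of a flat `W_n(S)`-module
-/

set_option autoImplicit false

open scoped TensorProduct

namespace K673.GhCore

open Groth.Agent Groth.Agent.Desc.SecD K673.WittFil K673.GhBC

section flat

variable {W : Type*} [CommRing W] (J J' : Ideal W) {S : Type*} [AddCommGroup S] [Module W S]
  (γ : J →ₗ[W] S) (N : Type*) [AddCommGroup N] [Module W N]

/-- `a ⊗ x ↦ a • x` -/
noncomputable def mu : J ⊗[W] N →ₗ[W] N :=
  TensorProduct.lift ((LinearMap.lsmul W N).domRestrict J)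

@[simp] theorem mu_tmul (a : J) (x : N) : mu J N (a ⊗ₜ x) = (a : W) • x := rfl

theorem mu_eq : mu J N = (TensorProduct.lid W N).toLinearMap ∘ₗ LinearMap.rTensor N J.subtype := by
  ext a x
  simp

theorem mu_injective [Module.Flat W N] : Function.Injective (mu J N) := by
  rw [mu_eq]
  exact (TensorProduct.lid W N).injective.comp
    (Module.Flat.rTensor_preserves_injective_linearMap _ J.injective_subtype)

theorem exists_mu_eq {x : N} (hx : x ∈ J • (⊤ : Submodule W N)) : ∃ z, mu J N z = x := by
  have : J • (⊤ : Submodule W N) ≤ LinearMap.range (mu J N) := by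
    rw [Submodule.smul_le]
    intro a ha y _
    exact ⟨(⟨a, ha⟩ : J) ⊗ₜ y, rfl⟩
  exact this hx

theorem mu_mem (z : J ⊗[W] N) : mu J N z ∈ J • (⊤ : Submodule W N) := by
  induction z with
  | zero => rw [map_zero]; exact Submodule.zero_mem _
  | add x y hx hy => rw [map_add]; exact Submodule.add_mem _ hx hy
  | tmul a x => exact Submodule.smul_mem_smul a.2 Submodule.mem_top

variable {J J' γ} (hJ : J' ≤ J) (hγ : ∀ a : J, γ a = 0 ↔ (a : W) ∈ J')

include hJ hγ

theorem rTensor_eq_zero [Module.Flat W N] (z : J ⊗[W] N) (hz : mu J N z ∈ J' • (⊤ : Submodule W N)) :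
    LinearMap.rTensor N γ z = 0 := by
  obtain ⟨z', hz'⟩ := exists_mu_eq J' N hz
  have h1 : mu J N (LinearMap.rTensor N (Submodule.inclusion hJ) z') = mu J' N z' := by
    clear hz'
    induction z' with
    | zero => simp
    | add x y hx hy => simp only [map_add, hx, hy]
    | tmul a x => rfl
  have h2 : z = LinearMap.rTensor N (Submodule.inclusion hJ) z' :=
    mu_injective J N (by rw [h1, hz'])
  rw [h2, ← LinearMap.comp_apply, ← LinearMap.rTensor_comp]
  have h3 : γ ∘ₗ Submodule.inclusion hJ = 0 := by
    ext a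
    exact (hγ _).2 a.2
  rw [h3, LinearMap.rTensor_zero, LinearMap.zero_apply]

theorem mu_mem_of_rTensor_eq_zero (hs : Function.Surjective γ) (z : J ⊗[W] N)
    (hz : LinearMap.rTensor N γ z = 0) : mu J N z ∈ J' • (⊤ : Submodule W N) := by
  have hex : Function.Exact (Submodule.inclusion hJ) γ := by
    intro a
    rw [hγ]
    constructor
    · intro ha
      exact ⟨⟨a, ha⟩, rfl⟩
    · rintro ⟨b, rfl⟩
      exact b.2
  obtain ⟨z', rfl⟩ := (rTensor_exact N hex hs z).1 hz
  have h1 : mu J N (LinearMap.rTensor N (Submodule.inclusion hJ) z') = mu J' N z' := by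
    clear hz
    induction z' with
    | zero => simp
    | add x y hx hy => simp only [map_add, hx, hy]
    | tmul a x => rfl
  rw [h1]
  exact mu_mem J' N z'

end flat

section ghost

variable {p : ℕ} [hp : Fact p.Prime] {n : ℕ}

/-- `S` as a `W_n(S)`-algebra through the `i`-th ghost component -/
def Gh (_ n : ℕ) (_ : Fin n) (S : Type*) : Type _ := S

variable (i : Fin n) {S T : Type*} [CommRing S] [CommRing T]

instance : CommRing (Gh p n i S) := inferInstanceAs (CommRing S)

noncomputable instance : Algebra (TruncatedWittVector p n S) (Gh p n i S) :=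
  (gh i : TruncatedWittVector p n S →+* S).toAlgebra

theorem algebraMap_Gh (x : TruncatedWittVector p n S) :
    algebraMap (TruncatedWittVector p n S) (Gh p n i S) x = gh i x := rfl

/-- a ring map, as a map of ghost rings -/
def ghf (p : ℕ) (i : Fin n) (f : S →+* T) : Gh p n i S →+* Gh p n i T := f

theorem ghf_comp (f : S →+* T) :
    (algebraMap (TruncatedWittVector p n T) (Gh p n i T)).comp (WittGrp.truncMap p n f) =
      (ghf p i f).comp (algebraMap (TruncatedWittVector p n S) (Gh p n i S)) :=
  gh_comp_truncMap f i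

variable (p S) in
/-- the leading component `Fil i → S` -/
noncomputable def lead : Fil p n S i →ₗ[TruncatedWittVector p n S] Gh p n i S where
  toFun x := (x : TruncatedWittVector p n S).coeff i
  map_add' x y := coeff_add_of_mem i x.2 y.2
  map_smul' a x := by
    rw [Algebra.smul_def]
    exact coeff_mul_of_mem i a x.2

theorem lead_apply (x : Fil p n S i) : lead p i S x = (x : TruncatedWittVector p n S).coeff i := rfl

theorem lead_surjective : Function.Surjective (lead p i S) :=
  fun s => ⟨⟨sg p i s, sg_mem i s⟩, coeff_sg_self (p := p) i s⟩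

theorem lead_eq_zero (a : Fil p n S i) :
    lead p i S a = 0 ↔ (a : TruncatedWittVector p n S) ∈ Fil p n S (i + 1) :=
  (mem_Fil_succ_iff i a.2).symm

variable (f : S →+* T) {N P : Type*} [AddCommGroup N] [AddCommGroup P]
  [Module (TruncatedWittVector p n S) N] [Module (TruncatedWittVector p n T) P]
  (u : N →ₛₗ[WittGrp.truncMap p n f] P)

/-- `Fil i (S) → Fil i (T)` -/
noncomputable def filMap : Fil p n S i →ₛₗ[WittGrp.truncMap p n f] Fil p n T i where
  toFun x := ⟨WittGrp.truncMap p n f x, truncMap_mem_Fil f x.2⟩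
  map_add' x y := Subtype.ext (map_add (WittGrp.truncMap p n f) _ _)
  map_smul' a x := Subtype.ext (map_mul (WittGrp.truncMap p n f) _ _)

/-- `S → T` as a semilinear map -/
noncomputable def ghLin : Gh p n i S →ₛₗ[WittGrp.truncMap p n f] Gh p n i T where
  toFun := f
  map_add' := map_add f
  map_smul' a x := by
    rw [Algebra.smul_def, Algebra.smul_def, algebraMap_Gh, algebraMap_Gh, gh_truncMap]
    exact map_mul f _ _

/-- the induced map `Fil i ⊗ N → Fil i ⊗ P` -/
noncomputable def zMap : Fil p n S i ⊗[TruncatedWittVector p n S] N →ₛₗ[WittGrp.truncMap p n f]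
    Fil p n T i ⊗[TruncatedWittVector p n T] P :=
  TensorProduct.map (filMap i f) u

/-- the induced map on graded pieces -/
noncomputable def gMap : Gh p n i S ⊗[TruncatedWittVector p n S] N →ₛₗ[WittGrp.truncMap p n f]
    Gh p n i T ⊗[TruncatedWittVector p n T] P :=
  TensorProduct.map (ghLin i f) u

theorem gMap_tmul (s : Gh p n i S) (x : N) : gMap i f u (s ⊗ₜ x) = (ghf p i f s) ⊗ₜ u x := rfl

theorem mu_zMap (z : Fil p n S i ⊗[TruncatedWittVector p n S] N) :
    mu (Fil p n T i) P (zMap i f u z) = u (mu (Fil p n S i) N z) := by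
  induction z with
  | zero => simp
  | add x y hx hy => simp only [map_add, hx, hy]
  | tmul a x =>
    change WittGrp.truncMap p n f a • u x = u ((a : TruncatedWittVector p n S) • x)
    rw [map_smulₛₗ]

theorem lead_zMap (z : Fil p n S i ⊗[TruncatedWittVector p n S] N) :
    LinearMap.rTensor P (lead p i T) (zMap i f u z) =
      gMap i f u (LinearMap.rTensor N (lead p i S) z) := by
  induction z with
  | zero => simp
  | add x y hx hy => simp only [map_add, hx, hy]
  | tmul a x =>
    change (lead p i T (filMap i f a)) ⊗ₜ u x = (ghLin i f (lead p i S a)) ⊗ₜ u x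
    congr 1

theorem isBC_gMap (hu : IsBC (WittGrp.truncMap p n f) inferInstance inferInstance
    u.toAddMonoidHom) :
    IsBC (ghf p i f) inferInstance inferInstance (gMap i f u).toAddMonoidHom :=
  isBC_square (WittGrp.truncMap p n f) (ghf p i f) (ghf_comp i f) hu _ (fun _ _ => rfl)

end ghost

end K673.GhCore
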