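import Groth.Agent.CAlg.K673.GhMain
import Groth.Agent.CAlg.K673.GPF
import Groth.Prelude.Def_W4c3truncdispsmoothDesc

/-!
# The data of `GhStep.Dat` from a descent datum
-/

set_option autoImplicit false
set_option backward.isDefEq.respectTransparency false
set_option backward.isDefEq.respectTransparency.types false
open CategoryTheory Opposite TensorProduct
universe w t v' v u' u

namespace K673.GhDat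

open Groth.Agent.Desc.SecD Groth.Agent Pseudofunctor SecData

section gen

variable {C : Type u} [Category.{v} C] {F : Pseudofunctor (LocallyDiscrete Cᵒᵖ) Cat.{v', u'}}
  (σ : SecData.{w} F) {X S Y Z : C} {f : X ⟶ S} (D : F.DescentData (fun _ : PUnit.{t + 1} => f))

/-- the maps between sections of a descent datum -/
structure Maps (p₁ p₂ : Y ⟶ X) (hp : p₁ ≫ f = p₂ ≫ f) (q₂₃ q₁₂ q₁₃ : Z ⟶ Y) (q₃ : Z ⟶ X) where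
  b₁₂ : (σ.Γ Y).obj ((F.map p₂.op.toLoc).toFunctor.obj (dObj D)) →+
    (σ.Γ Z).obj ((F.map q₃.op.toLoc).toFunctor.obj (dObj D))
  b₁₂_smul : ∀ (r : σ.O.obj (op Y)) m, b₁₂ (r • m) = (σ.O.map q₁₂.op).hom r • b₁₂ m
  b₁₃ : (σ.Γ Y).obj ((F.map p₂.op.toLoc).toFunctor.obj (dObj D)) →+
    (σ.Γ Z).obj ((F.map q₃.op.toLoc).toFunctor.obj (dObj D))
  b₁₃_smul : ∀ (r : σ.O.obj (op Y)) m, b₁₃ (r • m) = (σ.O.map q₁₃.op).hom r • b₁₃ m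
  b₂₃ : (σ.Γ Y).obj ((F.map p₂.op.toLoc).toFunctor.obj (dObj D)) →+
    (σ.Γ Z).obj ((F.map q₃.op.toLoc).toFunctor.obj (dObj D))
  b₂₃_smul : ∀ (r : σ.O.obj (op Y)) m, b₂₃ (r • m) = (σ.O.map q₂₃.op).hom r • b₂₃ m
  c11 : ∀ m, b₁₂ (σ.δ D p₁ p₂ hp (σ.unit p₁ (dObj D) m)) =
    b₁₃ (σ.δ D p₁ p₂ hp (σ.unit p₁ (dObj D) m))
  c12 : ∀ m, b₁₂ (σ.unit p₂ (dObj D) m) = b₂₃ (σ.δ D p₁ p₂ hp (σ.unit p₁ (dObj D) m))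
  c13 : ∀ m, b₁₃ (σ.unit p₂ (dObj D) m) = b₂₃ (σ.unit p₂ (dObj D) m)
  hb₂₃ : IsBC (σ.O.map q₂₃.op).hom inferInstance inferInstance
      (σ.unit q₂₃ ((F.map p₂.op.toLoc).toFunctor.obj (dObj D))) →
    IsBC (σ.O.map q₂₃.op).hom inferInstance inferInstance b₂₃

/-- the maps between sections of a descent datum -/
def maps (p₁ p₂ : Y ⟶ X) (hp : p₁ ≫ f = p₂ ≫ f) (q₁ q₂ q₃ : Z ⟶ X)
    (q₂₃ : Z ⟶ Y) (h₂₃ : q₂₃ ≫ p₁ = q₂) (h₂₃' : q₂₃ ≫ p₂ = q₃)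
    (q₁₂ : Z ⟶ Y) (h₁₂ : q₁₂ ≫ p₁ = q₁) (h₁₂' : q₁₂ ≫ p₂ = q₂)
    (q₁₃ : Z ⟶ Y) (h₁₃ : q₁₃ ≫ p₁ = q₁) (h₁₃' : q₁₃ ≫ p₂ = q₃) :
    Maps σ D p₁ p₂ hp q₂₃ q₁₂ q₁₃ q₃ :=
  have hq₁₂ : q₁ ≫ f = q₂ ≫ f := by
    rw [← h₁₂, ← h₁₂', Category.assoc, Category.assoc, hp]
  have hq₂₃ : q₂ ≫ f = q₃ ≫ f := by
    rw [← h₂₃, ← h₂₃', Category.assoc, Category.assoc, hp]
  { b₁₂ := (σ.δ D q₂ q₃ hq₂₃).toAddMonoidHom.comp (σ.trans p₂ q₁₂ q₂ h₁₂' (dObj D))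
    b₁₂_smul := fun r m => by
      change σ.δ D q₂ q₃ hq₂₃ (σ.trans p₂ q₁₂ q₂ h₁₂' (dObj D) (r • m)) =
        (σ.O.map q₁₂.op).hom r • σ.δ D q₂ q₃ hq₂₃ (σ.trans p₂ q₁₂ q₂ h₁₂' (dObj D) m)
      rw [σ.trans_smul, map_smul]
    b₁₃ := σ.trans p₂ q₁₃ q₃ h₁₃' (dObj D)
    b₁₃_smul := fun r m => σ.trans_smul _ _ _ _ _ r m
    b₂₃ := σ.trans p₂ q₂₃ q₃ h₂₃' (dObj D)
    b₂₃_smul := fun r m => σ.trans_smul _ _ _ _ _ r m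
    c11 := fun m => by
      change σ.δ D q₂ q₃ hq₂₃ (σ.trans p₂ q₁₂ q₂ h₁₂' (dObj D)
        (σ.δ D p₁ p₂ hp (σ.unit p₁ (dObj D) m))) =
        σ.trans p₂ q₁₃ q₃ h₁₃' (dObj D) (σ.δ D p₁ p₂ hp (σ.unit p₁ (dObj D) m))
      rw [← σ.δ_unit D q₁₂ p₁ p₂ hp q₁ q₂ h₁₂ h₁₂' hq₁₂,
        ← σ.δ_unit D q₁₃ p₁ p₂ hp q₁ q₃ h₁₃ h₁₃' (hq₁₂.trans hq₂₃), σ.δ_comp]
    c12 := fun m => by
      change σ.δ D q₂ q₃ hq₂₃ (σ.trans p₂ q₁₂ q₂ h₁₂' (dObj D) (σ.unit p₂ (dObj D) m)) =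
        σ.trans p₂ q₂₃ q₃ h₂₃' (dObj D) (σ.δ D p₁ p₂ hp (σ.unit p₁ (dObj D) m))
      rw [← σ.δ_unit D q₂₃ p₁ p₂ hp q₂ q₃ h₂₃ h₂₃' hq₂₃, σ.trans_unit]
    c13 := fun m => by rw [σ.trans_unit, σ.trans_unit]
    hb₂₃ := fun h => σ.isBC_trans p₂ q₂₃ q₃ h₂₃' (dObj D) h }

/-- the maps between sections of a descent datum, on the diagonal -/
theorem exists_diag (p₁ p₂ : Y ⟶ X) (hp : p₁ ≫ f = p₂ ≫ f)
    (Δ : X ⟶ Y) (hΔ₁ : Δ ≫ p₁ = 𝟙 X) (hΔ₂ : Δ ≫ p₂ = 𝟙 X)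
    (hu : Function.Bijective (σ.unit (𝟙 X) (dObj D))) :
    ∃ t₀ : (σ.Γ Y).obj ((F.map p₂.op.toLoc).toFunctor.obj (dObj D)) →+ (σ.Γ X).obj (dObj D),
      (∀ (r : σ.O.obj (op Y)) m, t₀ (r • m) = (σ.O.map Δ.op).hom r • t₀ m) ∧
      (∀ m, t₀ (σ.δ D p₁ p₂ hp (σ.unit p₁ (dObj D) m)) = m) ∧
      (∀ m, t₀ (σ.unit p₂ (dObj D) m) = m) := by
  let e : (σ.Γ X).obj (dObj D) ≃+
      (σ.Γ X).obj ((F.map (𝟙 X : X ⟶ X).op.toLoc).toFunctor.obj (dObj D)) :=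
    AddEquiv.ofBijective (σ.unit (𝟙 X) (dObj D)) hu
  refine ⟨e.symm.toAddMonoidHom.comp (σ.trans p₂ Δ (𝟙 X) hΔ₂ (dObj D)), ?_, ?_, ?_⟩
  · intro r m
    change e.symm (σ.trans p₂ Δ (𝟙 X) hΔ₂ (dObj D) (r • m)) =
      (σ.O.map Δ.op).hom r • e.symm (σ.trans p₂ Δ (𝟙 X) hΔ₂ (dObj D) m)
    apply e.injective
    rw [e.apply_symm_apply, σ.trans_smul]
    refine Eq.trans ?_ (σ.unit_smul (𝟙 X) (dObj D) _ _).symm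
    rw [σ.O_map_id]
    congr 1
    exact (e.apply_symm_apply _).symm
  · intro m
    change e.symm (σ.trans p₂ Δ (𝟙 X) hΔ₂ (dObj D) (σ.δ D p₁ p₂ hp (σ.unit p₁ (dObj D) m))) = _
    rw [← σ.δ_unit D Δ p₁ p₂ hp (𝟙 X) (𝟙 X) hΔ₁ hΔ₂ rfl, σ.δ_self]
    exact e.symm_apply_apply m
  · intro m
    change e.symm (σ.trans p₂ Δ (𝟙 X) hΔ₂ (dObj D) (σ.unit p₂ (dObj D) m)) = _
    rw [σ.trans_unit]
    exact e.symm_apply_apply m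

end gen

section witt

open K673.GPF K673.GhStep

variable {p : ℕ} [Fact p.Prime] {n : ℕ} {R A B T : CommRingCat.{u}} {φ : R ⟶ A}
  {ι₁ ι₂ : A ⟶ B} {κ₁ : A ⟶ T} {κ₂₃ q₁₂ q₁₃ : B ⟶ T}

/-- `GhStep.Dat` from additive maps -/
noncomputable def mkDat {M P Q : Type u} [AddCommGroup M] [AddCommGroup P] [AddCommGroup Q]
    (iM : Module (WR (W4c3truncdispsmooth.wittTrunc p n) (op A)) M)
    (iP : Module (WR (W4c3truncdispsmooth.wittTrunc p n) (op B)) P)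
    (iQ : Module (WR (W4c3truncdispsmooth.wittTrunc p n) (op T)) Q)
    (hφ : letI := φ.hom.toAlgebra; Module.FaithfullyFlat R A)
    (hB : IsPushout φ φ ι₁ ι₂) (hT : IsPushout φ (φ ≫ ι₁) κ₁ κ₂₃)
    (h12 : ι₁ ≫ q₁₂ = κ₁) (h12' : ι₂ ≫ q₁₂ = ι₁ ≫ κ₂₃)
    (h13 : ι₁ ≫ q₁₃ = κ₁) (h13' : ι₂ ≫ q₁₃ = ι₂ ≫ κ₂₃)
    (a₁ : M →+ P) (ha₁ : ∀ (r : WR (W4c3truncdispsmooth.wittTrunc p n) (op A)) m,
      a₁ (r • m) = WM (W4c3truncdispsmooth.wittTrunc p n) ι₁.op r • a₁ m)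
    (a₂ : M →+ P) (ha₂ : IsBC (WM (W4c3truncdispsmooth.wittTrunc p n) ι₂.op) iM iP a₂)
    (b₁₂ : P →+ Q) (hb₁₂ : ∀ (r : WR (W4c3truncdispsmooth.wittTrunc p n) (op B)) m,
      b₁₂ (r • m) = WM (W4c3truncdispsmooth.wittTrunc p n) q₁₂.op r • b₁₂ m)
    (b₁₃ : P →+ Q) (hb₁₃ : ∀ (r : WR (W4c3truncdispsmooth.wittTrunc p n) (op B)) m,
      b₁₃ (r • m) = WM (W4c3truncdispsmooth.wittTrunc p n) q₁₃.op r • b₁₃ m)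
    (b₂₃ : P →+ Q) (hb₂₃ : IsBC (WM (W4c3truncdispsmooth.wittTrunc p n) κ₂₃.op) iP iQ b₂₃)
    (c11 : ∀ m, b₁₂ (a₁ m) = b₁₃ (a₁ m)) (c12 : ∀ m, b₁₂ (a₂ m) = b₂₃ (a₁ m))
    (c13 : ∀ m, b₁₃ (a₂ m) = b₂₃ (a₂ m)) :
    @Dat p _ n R A B T φ ι₁ ι₂ κ₁ κ₂₃ q₁₂ q₁₃ M P Q _ _ _ iM iP iQ :=
  letI : Module (TruncatedWittVector p n A) M := iM
  letI : Module (TruncatedWittVector p n B) P := iP
  letI : Module (TruncatedWittVector p n T) Q := iQ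
  { hφ := hφ
    hB := hB
    hT := hT
    h12 := h12
    h12' := h12'
    h13 := h13
    h13' := h13'
    a₁ := { toFun := a₁, map_add' := map_add a₁, map_smul' := ha₁ }
    a₂ := { toFun := a₂, map_add' := map_add a₂, map_smul' := ha₂.choose }
    b₁₂ := { toFun := b₁₂, map_add' := map_add b₁₂, map_smul' := hb₁₂ }
    b₁₃ := { toFun := b₁₃, map_add' := map_add b₁₃, map_smul' := hb₁₃ }
    b₂₃ := { toFun := b₂₃, map_add' := map_add b₂₃, map_smul' := hb₂₃.choose }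
    c11 := c11
    c12 := c12
    c13 := c13
    ha₂ := ha₂
    hb₂₃ := hb₂₃ }

theorem exists_of_maps {M P Q : Type u} [AddCommGroup M] [AddCommGroup P] [AddCommGroup Q]
    (iM : Module (WR (W4c3truncdispsmooth.wittTrunc p n) (op A)) M)
    (iP : Module (WR (W4c3truncdispsmooth.wittTrunc p n) (op B)) P)
    (iQ : Module (WR (W4c3truncdispsmooth.wittTrunc p n) (op T)) Q)
    (hφ : letI := φ.hom.toAlgebra; Module.FaithfullyFlat R A)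
    (hB : IsPushout φ φ ι₁ ι₂) (hT : IsPushout φ (φ ≫ ι₁) κ₁ κ₂₃)
    (h12 : ι₁ ≫ q₁₂ = κ₁) (h12' : ι₂ ≫ q₁₂ = ι₁ ≫ κ₂₃)
    (h13 : ι₁ ≫ q₁₃ = κ₁) (h13' : ι₂ ≫ q₁₃ = ι₂ ≫ κ₂₃)
    {Δ : B ⟶ A} (hΔ₁ : ι₁ ≫ Δ = 𝟙 A) (hΔ₂ : ι₂ ≫ Δ = 𝟙 A)
    (a₁ : M →+ P) (ha₁ : ∀ (r : WR (W4c3truncdispsmooth.wittTrunc p n) (op A)) m,
      a₁ (r • m) = WM (W4c3truncdispsmooth.wittTrunc p n) ι₁.op r • a₁ m)
    (a₂ : M →+ P) (ha₂ : IsBC (WM (W4c3truncdispsmooth.wittTrunc p n) ι₂.op) iM iP a₂)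
    (b₁₂ : P →+ Q) (hb₁₂ : ∀ (r : WR (W4c3truncdispsmooth.wittTrunc p n) (op B)) m,
      b₁₂ (r • m) = WM (W4c3truncdispsmooth.wittTrunc p n) q₁₂.op r • b₁₂ m)
    (b₁₃ : P →+ Q) (hb₁₃ : ∀ (r : WR (W4c3truncdispsmooth.wittTrunc p n) (op B)) m,
      b₁₃ (r • m) = WM (W4c3truncdispsmooth.wittTrunc p n) q₁₃.op r • b₁₃ m)
    (b₂₃ : P →+ Q) (hb₂₃ : IsBC (WM (W4c3truncdispsmooth.wittTrunc p n) κ₂₃.op) iP iQ b₂₃)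
    (c11 : ∀ m, b₁₂ (a₁ m) = b₁₃ (a₁ m)) (c12 : ∀ m, b₁₂ (a₂ m) = b₂₃ (a₁ m))
    (c13 : ∀ m, b₁₃ (a₂ m) = b₂₃ (a₂ m))
    (t₀ : P →+ M) (ht₀ : ∀ (r : WR (W4c3truncdispsmooth.wittTrunc p n) (op B)) m,
      t₀ (r • m) = WM (W4c3truncdispsmooth.wittTrunc p n) Δ.op r • t₀ m)
    (ht₁ : ∀ m, t₀ (a₁ m) = m) (ht₂ : ∀ m, t₀ (a₂ m) = m)
    (h : 0 < n) (hpR : IsNilpotent (p : R))
    (hMf : Module.Finite (WR (W4c3truncdispsmooth.wittTrunc p n) (op A)) M)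
    (hMp : Module.Projective (WR (W4c3truncdispsmooth.wittTrunc p n) (op A)) M) :
    ∃ L : ModuleCat.{u} (WR (W4c3truncdispsmooth.wittTrunc p n) (op R)),
      Module.Finite (WR (W4c3truncdispsmooth.wittTrunc p n) (op R)) L ∧
      Module.Projective (WR (W4c3truncdispsmooth.wittTrunc p n) (op R)) L ∧
        ∃ s : L →+ M, IsBC (WM (W4c3truncdispsmooth.wittTrunc p n) φ.op) inferInstance iM s ∧
          ∀ l, a₁ (s l) = a₂ (s l) := by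
  letI : Module (TruncatedWittVector p n A) M := iM
  letI : Module (TruncatedWittVector p n B) P := iP
  letI : Module (TruncatedWittVector p n T) Q := iQ
  have _ : Module.Finite (TruncatedWittVector p n A) M := hMf
  have _ : Module.Projective (TruncatedWittVector p n A) M := hMp
  let t₀' : P →ₛₗ[WittGrp.truncMap p n Δ.hom] M :=
    { toFun := t₀, map_add' := map_add t₀, map_smul' := ht₀ }
  obtain ⟨L, _, _, hf, hp, s, hs, hs'⟩ := (mkDat iM iP iQ hφ hB hT h12 h12' h13 h13' a₁ ha₁ a₂ ha₂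
    b₁₂ hb₁₂ b₁₃ hb₁₃ b₂₃ hb₂₃ c11 c12 c13).exists_descent t₀' hΔ₁ hΔ₂ ht₁ ht₂ h hpR
  exact ⟨ModuleCat.of (TruncatedWittVector p n R) L, hf, hp, s, hs, hs'⟩

end witt

end K673.GhDat
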