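import Groth.Agent.Sga5.NilLift
import Groth.Agent.FlatA.NilpotentFree
import Groth.Agent.Desc.SecData4

/-!
# Lifting finite projective modules along surjections with nilpotent kernel, in `IsBC` form;
composition of `IsBC`
-/

set_option autoImplicit false
open scoped TensorProduct
universe u

namespace K673.ProjLift

open Groth.Agent Groth.Agent.Desc.SecD

theorem finite_of_nilpotent {A : Type*} [CommRing A] (I : Ideal A) (hI : IsNilpotent I) (L : Type*)
    [AddCommGroup L] [Module A L] [h : Module.Finite (A ⧸ I) ((A ⧸ I) ⊗[A] L)] :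
    Module.Finite A L := by
  classical
  obtain ⟨k, s, hs⟩ := Module.Finite.exists_fin (R := A ⧸ I) (M := (A ⧸ I) ⊗[A] L)
  choose l hl using fun i => Sga5.NilLift.mk_one_surjective I L (s i)
  refine ⟨⟨Finset.univ.image l, ?_⟩⟩
  refine Groth.Agent.FlatA.NilpotentFree.eq_top_of_isNilpotent I hI _ ?_
  rw [eq_top_iff]
  intro x _
  have h1 : (1 : A ⧸ I) ⊗ₜ[A] x ∈ Submodule.span (A ⧸ I) (Set.range s) := by
    rw [hs]
    trivial
  obtain ⟨c, hc⟩ := (Submodule.mem_span_range_iff_exists_fun _).1 h1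
  choose w hw using fun i => Ideal.Quotient.mk_surjective (c i)
  have h2 : (1 : A ⧸ I) ⊗ₜ[A] (x - ∑ i, w i • l i) = 0 := by
    rw [TensorProduct.tmul_sub, TensorProduct.tmul_sum, ← hc, sub_eq_zero]
    refine Finset.sum_congr rfl fun i _ => ?_
    rw [← hl i, ← hw i, TensorProduct.tmul_smul]
    rfl
  have h3 : x - ∑ i, w i • l i ∈ I • (⊤ : Submodule A L) := by
    rw [← Submodule.Quotient.mk_eq_zero, ← TensorProduct.quotTensorEquivQuotSMul_mk_one_tmul, h2,
      map_zero]
  have h4 : x = (∑ i, w i • l i) + (x - ∑ i, w i • l i) := by abel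
  rw [h4]
  refine Submodule.add_mem_sup (Submodule.sum_mem _ fun i _ => Submodule.smul_mem _ _
    (Submodule.subset_span ?_)) h3
  simp

theorem exists_lift {W R : Type u} [CommRing W] [CommRing R] (g : W →+* R)
    (hg : Function.Surjective g) (hk : IsNilpotent (RingHom.ker g)) (N : Type u) [AddCommGroup N]
    [Module R N] [Module.Finite R N] [Module.Projective R N] :
    ∃ (L : Type u) (_ : AddCommGroup L) (_ : Module W L), Module.Finite W L ∧
      Module.Projective W L ∧ ∃ π : L →+ N, Function.Surjective π ∧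
        IsBC g inferInstance inferInstance π := by
  let I := RingHom.ker g
  let e : W ⧸ I ≃+* R := RingHom.quotientKerEquivOfSurjective hg
  let _ : Module (W ⧸ I) N := Module.compHom N (e : W ⧸ I →+* R)
  have hinv : RingHomInvPair (e.symm : R →+* W ⧸ I) (e : W ⧸ I →+* R) :=
    RingHomInvPair.of_ringEquiv e.symm
  have hinv' : RingHomInvPair (e : W ⧸ I →+* R) (e.symm : R →+* W ⧸ I) :=
    RingHomInvPair.of_ringEquiv e
  let idN : N ≃ₛₗ[(e.symm : R →+* W ⧸ I)] N :=
    { AddEquiv.refl N with
      map_smul' := fun r x => by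
        change r • x = e (e.symm r) • x
        rw [RingEquiv.apply_symm_apply] }
  have hproj : Module.Projective (W ⧸ I) N := Module.Projective.of_equiv idN
  have hfin : Module.Finite (W ⧸ I) N := by
    have : RingHomSurjective (e.symm : R →+* W ⧸ I) := ⟨e.symm.surjective⟩
    exact Module.Finite.of_surjective (idN : N →ₛₗ[(e.symm : R →+* W ⧸ I)] N) idN.surjective
  obtain ⟨L, _, _, hLp, ⟨ε⟩⟩ := Sga5.NilLift.exists_projective_lift I hk N
  have hLf : Module.Finite (W ⧸ I) ((W ⧸ I) ⊗[W] L) := Module.Finite.equiv ε.symm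
  have hL : Module.Finite W L := finite_of_nilpotent I hk L
  let π : L →+ N := ε.toLinearMap.toAddMonoidHom.comp
    (TensorProduct.mk W (W ⧸ I) L 1).toAddMonoidHom
  have hπ : ∀ l, π l = ε (1 ⊗ₜ l) := fun _ => rfl
  have hπs : ∀ (w : W) (l : L), π (w • l) = g w • π l := by
    intro w l
    have h1 : (1 : W ⧸ I) ⊗ₜ[W] (w • l) = (Ideal.Quotient.mk I w) • ((1 : W ⧸ I) ⊗ₜ[W] l) := by
      rw [TensorProduct.tmul_smul]
      rfl
    rw [hπ, h1, map_smul]
    rfl
  refine ⟨L, inferInstance, inferInstance, hL, hLp, π,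
    ε.surjective.comp (Sga5.NilLift.mk_one_surjective I L), hπs, ?_⟩
  let _ : Algebra W R := g.toAlgebra
  let eW : (W ⧸ I) ≃ₗ[W] R :=
    { e with
      map_smul' := fun w c => by
        obtain ⟨c, rfl⟩ := Ideal.Quotient.mk_surjective c
        exact map_mul g w c }
  have key : ∀ x : (W ⧸ I) ⊗[W] L, VarietyB.BCAlg.bc
      (⟨⟨π, map_add π⟩, hπs⟩ : L →ₛₗ[algebraMap W R] N)
      (TensorProduct.congr eW (LinearEquiv.refl W L) x) = ε x := by
    intro x
    induction x with
    | zero => rw [map_zero, map_zero, map_zero]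
    | add x y hx hy => rw [map_add, map_add, map_add, hx, hy]
    | tmul c l =>
      rw [TensorProduct.congr_tmul, VarietyB.BCAlg.bc_tmul]
      change e c • ε (1 ⊗ₜ l) = _
      have h1 : c ⊗ₜ[W] l = c • ((1 : W ⧸ I) ⊗ₜ[W] l) := by
        rw [TensorProduct.smul_tmul', smul_eq_mul, mul_one]
      rw [h1, map_smul]
      rfl
  have hfun : (VarietyB.BCAlg.bc (⟨⟨π, map_add π⟩, hπs⟩ : L →ₛₗ[algebraMap W R] N) : _ → _) ∘
      (TensorProduct.congr eW (LinearEquiv.refl W L)) = ε := funext key
  have hb : Function.Bijective ((VarietyB.BCAlg.bc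
      (⟨⟨π, map_add π⟩, hπs⟩ : L →ₛₗ[algebraMap W R] N) : _ → _) ∘
      (TensorProduct.congr eW (LinearEquiv.refl W L))) := by
    rw [hfun]
    exact ε.bijective
  exact (Function.Bijective.of_comp_iff _ (LinearEquiv.bijective _)).1 hb

theorem isBC_comp {R S T : Type*} [CommRing R] [CommRing S] [CommRing T] {f : R →+* S}
    {g : S →+* T} {M N P : Type*} [AddCommGroup M] [AddCommGroup N] [AddCommGroup P]
    [Module R M] [Module S N] [Module T P] {u : M →+ N} {v : N →+ P}
    (hu : IsBC f inferInstance inferInstance u) (hv : IsBC g inferInstance inferInstance v) :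
    IsBC (g.comp f) inferInstance inferInstance (v.comp u) := by
  let _ : Algebra R S := f.toAlgebra
  let _ : Algebra S T := g.toAlgebra
  let _ : Algebra R T := (g.comp f).toAlgebra
  have _ : IsScalarTower R S T := .of_algebraMap_eq' rfl
  let _ : Module R N := Module.compHom N f
  have _ : IsScalarTower R S N := ⟨fun r a m => by
    change (f r * a) • m = f r • (a • m)
    rw [mul_smul]⟩
  let _ : Module S P := Module.compHom P g
  have _ : IsScalarTower S T P := ⟨fun r a m => by
    change (g r * a) • m = g r • (a • m)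
    rw [mul_smul]⟩
  let _ : Module R P := Module.compHom P (g.comp f)
  have _ : IsScalarTower R T P := ⟨fun r a m => by
    change (g (f r) * a) • m = g (f r) • (a • m)
    rw [mul_smul]⟩
  have _ : IsScalarTower R S P := ⟨fun r a m => by
    change g (f r * a) • m = g (f r) • (g a • m)
    rw [map_mul, mul_smul]⟩
  obtain ⟨hus, hub⟩ := hu
  obtain ⟨hvs, hvb⟩ := hv
  let uR : M →ₗ[R] N := { toFun := u, map_add' := map_add u, map_smul' := hus }
  have hu' : IsBaseChange S uR := (VarietyB.BCAlg.isBaseChange_iff uR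
    (⟨⟨u, map_add u⟩, hus⟩ : M →ₛₗ[algebraMap R S] N) (fun _ => rfl)).2 hub
  let vR : N →ₗ[S] P := { toFun := v, map_add' := map_add v, map_smul' := hvs }
  have hv' : IsBaseChange T vR := (VarietyB.BCAlg.isBaseChange_iff vR
    (⟨⟨v, map_add v⟩, hvs⟩ : N →ₛₗ[algebraMap S T] P) (fun _ => rfl)).2 hvb
  have hs : ∀ (r : R) (m : M), v.comp u (r • m) = (g.comp f) r • v.comp u m := by
    intro r m
    change v (u (r • m)) = g (f r) • v (u m)
    rw [hus, hvs]
  exact ⟨hs, (VarietyB.BCAlg.isBaseChange_iff _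
    (⟨⟨v.comp u, map_add _⟩, hs⟩ : M →ₛₗ[algebraMap R T] P) (fun _ => rfl)).1
      (IsBaseChange.comp hu' hv')⟩

theorem flat_of_isBC {R S : Type*} [CommRing R] [CommRing S] {f : R →+* S}
    {M N : Type*} [AddCommGroup M] [AddCommGroup N] [Module R M] [Module S N] {u : M →+ N}
    (hu : IsBC f inferInstance inferInstance u) [Module.Flat R M] : Module.Flat S N := by
  let _ : Algebra R S := f.toAlgebra
  obtain ⟨hus, hub⟩ := hu
  exact Module.Flat.of_linearEquiv (LinearEquiv.ofBijective _ hub).symm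

end K673.ProjLift
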