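import Groth.Agent.CAlg.K673.GhStep
import Groth.Agent.CAlg.K673.ProjLift
import Groth.Agent.CAlg.K673.FPDesc
import Groth.Agent.Sga3A.LiftGL

/-!
# Effectivity of descent data of finite projective `W_n`-modules: algebra
-/

set_option autoImplicit false
open CategoryTheory
open scoped TensorProduct
universe u

namespace K673.GhStep

open Groth.Agent Groth.Agent.Desc.SecD K673.WittFil K673.GhBC K673.GhCore K673.ProjLift

variable {p : ℕ} [hp : Fact p.Prime] {n : ℕ}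

section mod0

variable (h : 0 < n) {S : Type*} [CommRing S] (N : Type*) [AddCommGroup N]
  [Module (TruncatedWittVector p n S) N]

theorem one_tmul_eq_zero_iff (x : N) :
    (1 : Gh p n ⟨0, h⟩ S) ⊗ₜ[TruncatedWittVector p n S] x = 0 ↔
      x ∈ Fil p n S 1 • (⊤ : Submodule (TruncatedWittVector p n S) N) := by
  constructor
  · intro hx
    have h1 : (1 : TruncatedWittVector p n S) ∈ Fil p n S ((⟨0, h⟩ : Fin n) : ℕ) := mem_Fil_zero _
    have h2 := mu_mem_of_rTensor_eq_zero (J := Fil p n S ((⟨0, h⟩ : Fin n) : ℕ)) N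
      (Fil_antitone (Nat.le_succ _)) (lead_eq_zero (p := p) (⟨0, h⟩ : Fin n))
      (lead_surjective (⟨0, h⟩ : Fin n))
      ((⟨1, h1⟩ : Fil p n S ((⟨0, h⟩ : Fin n) : ℕ)) ⊗ₜ x) (by
        rw [LinearMap.rTensor_tmul, ← hx]
        congr 1
        change (1 : TruncatedWittVector p n S).coeff ⟨0, h⟩ = _
        rw [← gh_zero h, map_one]
        rfl)
    rw [mu_tmul, one_smul] at h2
    exact h2
  · intro hx
    induction hx using Submodule.smul_induction_on' with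
    | smul a ha y _ =>
      rw [← TensorProduct.smul_tmul, Algebra.smul_def, algebraMap_Gh, gh_zero, ha _ zero_lt_one,
        mul_comm]
      exact (congrArg (fun t => t ⊗ₜ[TruncatedWittVector p n S] y) (mul_zero _)).trans
        (TensorProduct.zero_tmul _ _)
    | add x hx y hy h1 h2 => rw [TensorProduct.tmul_add, h1, h2, add_zero]

theorem gh_zero_surjective : Function.Surjective (gh (⟨0, h⟩ : Fin n) : TruncatedWittVector p n S →+* S) := by
  intro s
  refine ⟨sg p ⟨0, h⟩ s, ?_⟩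
  rw [gh_zero, coeff_sg_self]

theorem exists_one_tmul (g : Gh p n ⟨0, h⟩ S ⊗[TruncatedWittVector p n S] N) :
    ∃ x : N, (1 : Gh p n ⟨0, h⟩ S) ⊗ₜ[TruncatedWittVector p n S] x = g :=
  TensorProduct.mk_surjective _ _ _ (gh_zero_surjective h) g

theorem ker_gh_zero : RingHom.ker (gh (⟨0, h⟩ : Fin n) : TruncatedWittVector p n S →+* S) =
    Fil p n S 1 := by
  ext x
  rw [RingHom.mem_ker, gh_zero]
  constructor
  · intro hx j hj
    have : j = ⟨0, h⟩ := Fin.ext (by simpa using hj)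
    rw [this]
    exact hx
  · intro hx
    exact hx _ zero_lt_one

end mod0

/-- a semilinear map which is a base change map modulo a nilpotent ideal is one -/
theorem isBC_of_mod {WR WA A' : Type*} [CommRing WR] [CommRing WA] [CommRing A'] (Φ : WR →+* WA)
    (g : WA →+* A') (hg : Function.Surjective g) (I : Ideal WA) (hI : IsNilpotent I)
    (hker : ∀ x, g x = 0 ↔ x ∈ I) {L M G : Type*} [AddCommGroup L] [AddCommGroup M]
    [AddCommGroup G] [Module WR L] [Module WA M] [Module A' G] [Module.Flat WA M]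
    (s : L →+ M) (hs : ∀ (r : WR) l, s (r • l) = Φ r • s l) (c : M →+ G)
    (hc : ∀ (w : WA) m, c (w • m) = g w • c m)
    (hc0 : ∀ m, c m = 0 ↔ m ∈ I • (⊤ : Submodule WA M)) (θ : L →+ G)
    (hθ : IsBC (g.comp Φ) inferInstance inferInstance θ) (hcs : ∀ l, c (s l) = θ l) :
    IsBC Φ inferInstance inferInstance s := by
  let _ : Algebra WR WA := Φ.toAlgebra
  let _ : Algebra WR A' := (g.comp Φ).toAlgebra
  obtain ⟨hθs, hθb⟩ := hθ
  refine ⟨hs, ?_⟩
  let gl : WA →ₗ[WR] A' :=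
    { toFun := g, map_add' := map_add g, map_smul' := fun r w => map_mul g (Φ r) w }
  let ρ := LinearMap.rTensor L gl
  have hρs : Function.Surjective ρ := LinearMap.rTensor_surjective L hg
  have hρk : ∀ x, ρ x = 0 → x ∈ I • (⊤ : Submodule WA (WA ⊗[WR] L)) := by
    intro x hx
    have hex : Function.Exact (I.restrictScalars WR).subtype gl := by
      intro w
      constructor
      · intro hw
        exact ⟨⟨w, (hker w).1 hw⟩, rfl⟩
      · rintro ⟨b, rfl⟩
        exact (hker _).2 b.2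
    obtain ⟨y, rfl⟩ := (rTensor_exact L hex hg x).1 hx
    clear hx
    induction y with
    | zero => rw [map_zero]; exact Submodule.zero_mem _
    | add x y hx hy => rw [map_add]; exact Submodule.add_mem _ hx hy
    | tmul a l =>
      have h1 : LinearMap.rTensor L (I.restrictScalars WR).subtype (a ⊗ₜ l) =
          (a : WA) • ((1 : WA) ⊗ₜ[WR] l) := by
        rw [LinearMap.rTensor_tmul, TensorProduct.smul_tmul', smul_eq_mul, mul_one]
        rfl
      rw [h1]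
      exact Submodule.smul_mem_smul a.2 Submodule.mem_top
  have hcomm : ∀ x : WA ⊗[WR] L,
      c (VarietyB.BCAlg.bc (⟨⟨s, map_add s⟩, hs⟩ : L →ₛₗ[algebraMap WR WA] M) x) =
        VarietyB.BCAlg.bc (⟨⟨θ, map_add θ⟩, hθs⟩ : L →ₛₗ[algebraMap WR A'] G) (ρ x) := by
    intro x
    induction x with
    | zero => rw [map_zero, map_zero, map_zero, map_zero]
    | add x y hx hy => rw [map_add, map_add, map_add, map_add, hx, hy]
    | tmul w l =>
      rw [VarietyB.BCAlg.bc_tmul, hc]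
      change g w • c (s l) = VarietyB.BCAlg.bc _ (g w ⊗ₜ[WR] l)
      rw [VarietyB.BCAlg.bc_tmul, hcs]
      rfl
  refine Sga3A.LiftGL.bijective_of_nilpotent hI _ (fun y => ?_) (fun x hx => ?_)
  · obtain ⟨v, hv⟩ := hθb.2 (c y)
    obtain ⟨x, rfl⟩ := hρs v
    refine ⟨x, ?_⟩
    rw [← hc0, map_sub, hcomm, ← hv, sub_self]
  · apply hρk
    apply hθb.1
    rw [← hc0, hcomm] at hx
    rw [hx, map_zero]

namespace Dat

variable {R A B T : CommRingCat.{u}} {φ : R ⟶ A}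
    {ι₁ ι₂ : A ⟶ B} {κ₁ : A ⟶ T} {κ₂₃ q₁₂ q₁₃ : B ⟶ T} {M P Q : Type u}
    [AddCommGroup M] [AddCommGroup P] [AddCommGroup Q] [Module (TruncatedWittVector p n A) M]
    [Module (TruncatedWittVector p n B) P] [Module (TruncatedWittVector p n T) Q]
    (D : Dat p n φ ι₁ ι₂ κ₁ κ₂₃ q₁₂ q₁₃ M P Q)
    {Δ : B ⟶ A} (t₀ : P →ₛₗ[WittGrp.truncMap p n Δ.hom] M)
    (hΔ₁ : ι₁ ≫ Δ = 𝟙 A) (hΔ₂ : ι₂ ≫ Δ = 𝟙 A) (ht₁ : ∀ m, t₀ (D.a₁ m) = m)
    (ht₂ : ∀ m, t₀ (D.a₂ m) = m)

include hΔ₁ hΔ₂ ht₁ ht₂ in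
/-- the descended module modulo `V` -/
theorem exists_N (h : 0 < n) : ∃ (N : AddSubgroup (Gh p n ⟨0, h⟩ A ⊗[TruncatedWittVector p n A] M))
    (iN : Module R N),
    (∀ (r : R) (x : N), ((r • x : N) : Gh p n ⟨0, h⟩ A ⊗[TruncatedWittVector p n A] M) =
      (show R →+* Gh p n ⟨0, h⟩ A from φ.hom) r •
        (x : Gh p n ⟨0, h⟩ A ⊗[TruncatedWittVector p n A] M)) ∧
    (∀ m, m ∈ N ↔ gMap ⟨0, h⟩ ι₁.hom D.a₁ m = gMap ⟨0, h⟩ ι₂.hom D.a₂ m) ∧
    IsBC (show R →+* Gh p n ⟨0, h⟩ A from φ.hom) iN inferInstance N.subtype := by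
  have hflat : (show R →+* Gh p n ⟨0, h⟩ A from φ.hom).Flat := by
    letI := φ.hom.toAlgebra
    have := D.hφ
    exact (inferInstance : Module.Flat R A)
  refine exists_sub_alg (R := R) (A := Gh p n ⟨0, h⟩ A) (B := Gh p n ⟨0, h⟩ B) (φ := φ.hom)
    (M := Gh p n ⟨0, h⟩ A ⊗[TruncatedWittVector p n A] M)
    (P := Gh p n ⟨0, h⟩ B ⊗[TruncatedWittVector p n B] P)
    (E := Gh p n ⟨0, h⟩ A ⊗[TruncatedWittVector p n A] M)
    (Q := Gh p n ⟨0, h⟩ T ⊗[TruncatedWittVector p n T] Q)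
    (Q' := Gh p n ⟨0, h⟩ T ⊗[TruncatedWittVector p n T] Q)
    hflat inferInstance inferInstance (ψ := ghf p ⟨0, h⟩ ι₁.hom)
    (iQ := Module.compHom _ (show A →+* Gh p n ⟨0, h⟩ T from κ₁.hom))
    (gMap ⟨0, h⟩ ι₁.hom D.a₁).toAddMonoidHom
    (fun a m => gMap_smul _ _ _ a m) (gMap ⟨0, h⟩ ι₂.hom D.a₂).toAddMonoidHom (D.bca ⟨0, h⟩)
    (gMap ⟨0, h⟩ Δ.hom t₀).toAddMonoidHom (AddMonoidHom.id _) Function.injective_id ?_ ?_
    (gMap ⟨0, h⟩ κ₂₃.hom D.b₂₃).toAddMonoidHom (D.bcb ⟨0, h⟩)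
    (gMap ⟨0, h⟩ q₁₂.hom D.b₁₂).toAddMonoidHom (AddMonoidHom.id _)
    (gMap ⟨0, h⟩ q₁₃.hom D.b₁₃).toAddMonoidHom ?_ ?_ ?_
  · intro s g
    change gMap ⟨0, h⟩ Δ.hom t₀ (ghf p ⟨0, h⟩ ι₁.hom s • gMap ⟨0, h⟩ ι₂.hom D.a₂ g) = s • g
    rw [gMap_smul]
    have h1 : ghf p (⟨0, h⟩ : Fin n) Δ.hom (ghf p (⟨0, h⟩ : Fin n) ι₁.hom s) = s :=
      congrArg (fun f => f.hom s) hΔ₁
    rw [h1]
    congr 1
    induction g with
    | zero => simp
    | add x y hx hy => simp only [map_add, hx, hy]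
    | tmul a x =>
      simp only [gMap_tmul, ht₂]
      congr 1
      exact congrArg (fun f => f.hom a) hΔ₂
  · intro g
    change gMap ⟨0, h⟩ Δ.hom t₀ (gMap ⟨0, h⟩ ι₁.hom D.a₁ g) = g
    induction g with
    | zero => simp
    | add x y hx hy => simp only [map_add, hx, hy]
    | tmul a x =>
      simp only [gMap_tmul, ht₁]
      congr 1
      exact congrArg (fun f => f.hom a) hΔ₁
  · intro s m
    exact (D.gh12 ⟨0, h⟩ s m).symm
  · intro s m
    exact (D.gh13 ⟨0, h⟩ s m).symm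
  · intro m
    exact D.g11 ⟨0, h⟩ m

include hΔ₁ hΔ₂ ht₁ ht₂ in
/-- **Effectivity**, algebraic form, for `n > 0`. -/
theorem exists_descent (h : 0 < n) (hpR : IsNilpotent (p : R))
    [Module.Finite (TruncatedWittVector p n A) M] [Module.Projective (TruncatedWittVector p n A) M] :
    ∃ (L : Type u) (_ : AddCommGroup L) (_ : Module (TruncatedWittVector p n R) L),
      Module.Finite (TruncatedWittVector p n R) L ∧ Module.Projective (TruncatedWittVector p n R) L ∧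
        ∃ s : L →+ M, IsBC (WittGrp.truncMap p n φ.hom) inferInstance inferInstance s ∧
          ∀ l, D.a₁ (s l) = D.a₂ (s l) := by
  have hP : Module.Flat (TruncatedWittVector p n B) P := flat_of_isBC D.ha₂
  have hQ : Module.Flat (TruncatedWittVector p n T) Q := flat_of_isBC D.hb₂₃
  obtain ⟨N, iN, hN, hmem, hNbc⟩ := D.exists_N t₀ hΔ₁ hΔ₂ ht₁ ht₂ h
  -- `N` is finite projective
  let φg : R →+* Gh p n ⟨0, h⟩ A := φ.hom
  have hNfp : Module.Projective R N ∧ Module.Finite R N := by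
    let _ : Algebra R (Gh p n ⟨0, h⟩ A) := φg.toAlgebra
    have _ : Module.FaithfullyFlat R (Gh p n ⟨0, h⟩ A) := D.hφ
    obtain ⟨hs, hb⟩ := hNbc
    let κ := LinearEquiv.ofBijective _ hb
    have _ : Module.Finite (Gh p n ⟨0, h⟩ A) (Gh p n ⟨0, h⟩ A ⊗[R] N) := Module.Finite.equiv κ.symm
    have _ : Module.Projective (Gh p n ⟨0, h⟩ A) (Gh p n ⟨0, h⟩ A ⊗[R] N) :=
      Module.Projective.of_equiv κ.symm
    exact K673.FPDesc.finite_projective_descends R (Gh p n ⟨0, h⟩ A) N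
  obtain ⟨_, _⟩ := hNfp
  -- lift `N` to `W_n(R)`
  obtain ⟨L, _, _, hLf, hLp, π, hπs, hπbc⟩ := exists_lift
    (gh (⟨0, h⟩ : Fin n) : TruncatedWittVector p n R →+* R) (gh_zero_surjective h)
    (by rw [ker_gh_zero]; exact isNilpotent_Fil_one hpR) N
  refine ⟨L, inferInstance, inferInstance, hLf, hLp, ?_⟩
  let _ : Module (TruncatedWittVector p n R) M := Module.compHom M (WittGrp.truncMap p n φ.hom)
  let _ : Module (TruncatedWittVector p n R) N :=
    Module.compHom N (gh (⟨0, h⟩ : Fin n) : TruncatedWittVector p n R →+* R)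
  have hw : ∀ r : TruncatedWittVector p n R,
      WittGrp.truncMap p n ι₁.hom (WittGrp.truncMap p n φ.hom r) =
        WittGrp.truncMap p n ι₂.hom (WittGrp.truncMap p n φ.hom r) := by
    intro r
    refine TruncatedWittVector.ext fun j => ?_
    simp only [WittGrp.coeff_truncMap]
    exact congrArg (fun f => f.hom (r.coeff j)) D.hB.w
  let E : Submodule (TruncatedWittVector p n R) M :=
    { carrier := {m | D.a₁ m = D.a₂ m}
      zero_mem' := by
        change D.a₁ 0 = D.a₂ 0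
        rw [map_zero, map_zero]
      add_mem' := by
        intro x y hx hy
        change D.a₁ (x + y) = D.a₂ (x + y)
        rw [map_add, map_add, hx, hy]
      smul_mem' := by
        intro r x hx
        change D.a₁ (WittGrp.truncMap p n φ.hom r • x) = D.a₂ (WittGrp.truncMap p n φ.hom r • x)
        rw [map_smulₛₗ, map_smulₛₗ, hx, hw] }
  have hone : ∀ m : M, gMap ⟨0, h⟩ ι₁.hom D.a₁ ((1 : Gh p n ⟨0, h⟩ A) ⊗ₜ m) =
      (1 : Gh p n ⟨0, h⟩ B) ⊗ₜ D.a₁ m := by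
    intro m
    rw [gMap_tmul, map_one]
  have hone' : ∀ m : M, gMap ⟨0, h⟩ ι₂.hom D.a₂ ((1 : Gh p n ⟨0, h⟩ A) ⊗ₜ m) =
      (1 : Gh p n ⟨0, h⟩ B) ⊗ₜ D.a₂ m := by
    intro m
    rw [gMap_tmul, map_one]
  have hsm : ∀ (w : TruncatedWittVector p n A) (m : M),
      (1 : Gh p n ⟨0, h⟩ A) ⊗ₜ[TruncatedWittVector p n A] (w • m) =
        (show Gh p n ⟨0, h⟩ A from gh ⟨0, h⟩ w) •
          ((1 : Gh p n ⟨0, h⟩ A) ⊗ₜ[TruncatedWittVector p n A] m) := by
    intro w m
    rw [TensorProduct.tmul_smul]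
    exact (algebraMap_smul (Gh p n ⟨0, h⟩ A) w _).symm
  let pr : E →ₗ[TruncatedWittVector p n R] N :=
    { toFun := fun m => ⟨(1 : Gh p n ⟨0, h⟩ A) ⊗ₜ (m : M), by
        rw [hmem, hone, hone', m.2]⟩
      map_add' := fun x y => Subtype.ext (TensorProduct.tmul_add _ _ _)
      map_smul' := fun r x => Subtype.ext (by
        change (1 : Gh p n ⟨0, h⟩ A) ⊗ₜ[TruncatedWittVector p n A]
          (WittGrp.truncMap p n φ.hom r • (x : M)) = _
        rw [hsm]
        refine Eq.trans ?_ (hN (gh ⟨0, h⟩ r) _).symm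
        exact congrArg (fun t : Gh p n ⟨0, h⟩ A =>
          t • ((1 : Gh p n ⟨0, h⟩ A) ⊗ₜ[TruncatedWittVector p n A] (x : M)))
          (gh_truncMap φ.hom (⟨0, h⟩ : Fin n) r)) }
  have hprs : Function.Surjective pr := by
    rintro ⟨ν, hν⟩
    obtain ⟨m, rfl⟩ := exists_one_tmul (p := p) h M ν
    have h1 : D.a₁ m - D.a₂ m ∈ Fil p n B 1 • (⊤ : Submodule (TruncatedWittVector p n B) P) := by
      rw [← one_tmul_eq_zero_iff h, TensorProduct.tmul_sub, ← hone, ← hone', (hmem _).1 hν, sub_self]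
    obtain ⟨m', h2, h3⟩ := D.lift1 hQ m h1
    refine ⟨⟨m', h3⟩, Subtype.ext ?_⟩
    change (1 : Gh p n ⟨0, h⟩ A) ⊗ₜ[TruncatedWittVector p n A] m' = _
    rw [← one_tmul_eq_zero_iff h, TensorProduct.tmul_sub, sub_eq_zero] at h2
    exact h2
  let πL : L →ₗ[TruncatedWittVector p n R] N :=
    { toFun := π, map_add' := map_add π, map_smul' := fun r l => hπbc.choose r l }
  obtain ⟨s, hs⟩ := Module.projective_lifting_property pr πL hprs
  have hs' : ∀ l, (1 : Gh p n ⟨0, h⟩ A) ⊗ₜ[TruncatedWittVector p n A] (s l : M) = (π l : _) :=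
    fun l => congrArg Subtype.val (LinearMap.congr_fun hs l)
  refine ⟨E.subtype.toAddMonoidHom.comp s.toAddMonoidHom, ?_, fun l => (s l).2⟩
  have hpA : IsNilpotent (p : A) := by
    have := hpR.map φ.hom
    rwa [map_natCast] at this
  refine isBC_of_mod (WittGrp.truncMap p n φ.hom) (gh (⟨0, h⟩ : Fin n)) (gh_zero_surjective h)
    (A' := Gh p n ⟨0, h⟩ A) (Fil p n A 1) (isNilpotent_Fil_one hpA) (fun x => ?_)
    (G := Gh p n ⟨0, h⟩ A ⊗[TruncatedWittVector p n A] M) _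
    (fun r l => ?_) ((TensorProduct.mk (TruncatedWittVector p n A) (Gh p n ⟨0, h⟩ A) M 1).toAddMonoidHom)
    (fun w m => hsm w m) (fun m => one_tmul_eq_zero_iff h M m) (N.subtype.comp π) ?_ hs'
  · rw [← ker_gh_zero h, RingHom.mem_ker]
    rfl
  · change ((s (r • l) : E) : M) = _
    rw [map_smul]
    rfl
  · have h5 := isBC_comp hπbc hNbc
    convert h5 using 1
    exact gh_comp_truncMap φ.hom _

end Dat

end K673.GhStep
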