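import Groth.Agent.CAlg.K673.GhCore

/-!
# Lifting invariant elements through the `V`-filtration
-/

set_option autoImplicit false
open CategoryTheory
open scoped TensorProduct
universe u

namespace K673.GhStep

open Groth.Agent Groth.Agent.Desc.SecD K673.WittFil K673.GhBC K673.GhCore

variable {p : ℕ} [hp : Fact p.Prime] {n : ℕ}

section gmap

variable (i : Fin n) {S T : Type*} [CommRing S] [CommRing T]
  (f : S →+* T) {N P : Type*} [AddCommGroup N] [AddCommGroup P]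
  [Module (TruncatedWittVector p n S) N] [Module (TruncatedWittVector p n T) P]
  (u : N →ₛₗ[WittGrp.truncMap p n f] P)

theorem gMap_smul (r : Gh p n i S) (g : Gh p n i S ⊗[TruncatedWittVector p n S] N) :
    gMap i f u (r • g) = ghf p i f r • gMap i f u g := by
  induction g with
  | zero => simp
  | add x y hx hy => simp only [smul_add, map_add, hx, hy]
  | tmul a x =>
    rw [TensorProduct.smul_tmul', gMap_tmul, gMap_tmul, TensorProduct.smul_tmul', smul_eq_mul,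
      smul_eq_mul, map_mul]

end gmap

/-- a module over `W_n` of a truncated cosimplicial ring -/
structure Dat (p : ℕ) [Fact p.Prime] (n : ℕ) {R A B T : CommRingCat.{u}} (φ : R ⟶ A)
    (ι₁ ι₂ : A ⟶ B) (κ₁ : A ⟶ T) (κ₂₃ q₁₂ q₁₃ : B ⟶ T) (M P Q : Type u)
    [AddCommGroup M] [AddCommGroup P] [AddCommGroup Q] [Module (TruncatedWittVector p n A) M]
    [Module (TruncatedWittVector p n B) P] [Module (TruncatedWittVector p n T) Q] where
  hφ : letI := φ.hom.toAlgebra; Module.FaithfullyFlat R A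
  hB : IsPushout φ φ ι₁ ι₂
  hT : IsPushout φ (φ ≫ ι₁) κ₁ κ₂₃
  h12 : ι₁ ≫ q₁₂ = κ₁
  h12' : ι₂ ≫ q₁₂ = ι₁ ≫ κ₂₃
  h13 : ι₁ ≫ q₁₃ = κ₁
  h13' : ι₂ ≫ q₁₃ = ι₂ ≫ κ₂₃
  a₁ : M →ₛₗ[WittGrp.truncMap p n ι₁.hom] P
  a₂ : M →ₛₗ[WittGrp.truncMap p n ι₂.hom] P
  b₁₂ : P →ₛₗ[WittGrp.truncMap p n q₁₂.hom] Q
  b₁₃ : P →ₛₗ[WittGrp.truncMap p n q₁₃.hom] Q
  b₂₃ : P →ₛₗ[WittGrp.truncMap p n κ₂₃.hom] Q
  c11 : ∀ m, b₁₂ (a₁ m) = b₁₃ (a₁ m)
  c12 : ∀ m, b₁₂ (a₂ m) = b₂₃ (a₁ m)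
  c13 : ∀ m, b₁₃ (a₂ m) = b₂₃ (a₂ m)
  ha₂ : IsBC (WittGrp.truncMap p n ι₂.hom) inferInstance inferInstance a₂.toAddMonoidHom
  hb₂₃ : IsBC (WittGrp.truncMap p n κ₂₃.hom) inferInstance inferInstance b₂₃.toAddMonoidHom

namespace Dat

variable {R A B T : CommRingCat.{u}} {φ : R ⟶ A}
    {ι₁ ι₂ : A ⟶ B} {κ₁ : A ⟶ T} {κ₂₃ q₁₂ q₁₃ : B ⟶ T} {M P Q : Type u}
    [AddCommGroup M] [AddCommGroup P] [AddCommGroup Q] [Module (TruncatedWittVector p n A) M]
    [Module (TruncatedWittVector p n B) P] [Module (TruncatedWittVector p n T) Q]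
    (D : Dat p n φ ι₁ ι₂ κ₁ κ₂₃ q₁₂ q₁₃ M P Q)

theorem coc (m : M) : D.b₂₃ (D.a₁ m - D.a₂ m) - D.b₁₃ (D.a₁ m - D.a₂ m) +
    D.b₁₂ (D.a₁ m - D.a₂ m) = 0 := by
  rw [map_sub, map_sub, map_sub, D.c12, D.c13, D.c11]
  abel

theorem g12 (i : Fin n) (g : Gh p n i A ⊗[TruncatedWittVector p n A] M) :
    gMap i q₁₂.hom D.b₁₂ (gMap i ι₂.hom D.a₂ g) = gMap i κ₂₃.hom D.b₂₃ (gMap i ι₁.hom D.a₁ g) := by
  induction g with
  | zero => simp
  | add x y hx hy => simp only [map_add, hx, hy]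
  | tmul a x =>
    simp only [gMap_tmul, D.c12]
    congr 1
    exact congrArg (fun f => f.hom a) D.h12'

theorem g13 (i : Fin n) (g : Gh p n i A ⊗[TruncatedWittVector p n A] M) :
    gMap i q₁₃.hom D.b₁₃ (gMap i ι₂.hom D.a₂ g) = gMap i κ₂₃.hom D.b₂₃ (gMap i ι₂.hom D.a₂ g) := by
  induction g with
  | zero => simp
  | add x y hx hy => simp only [map_add, hx, hy]
  | tmul a x =>
    simp only [gMap_tmul, D.c13]
    congr 1
    exact congrArg (fun f => f.hom a) D.h13'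

theorem g11 (i : Fin n) (g : Gh p n i A ⊗[TruncatedWittVector p n A] M) :
    gMap i q₁₂.hom D.b₁₂ (gMap i ι₁.hom D.a₁ g) = gMap i q₁₃.hom D.b₁₃ (gMap i ι₁.hom D.a₁ g) := by
  induction g with
  | zero => simp
  | add x y hx hy => simp only [map_add, hx, hy]
  | tmul a x =>
    simp only [gMap_tmul, D.c11]
    congr 1
    exact congrArg (fun f => f.hom a) (D.h12.trans D.h13.symm)

theorem bca (i : Fin n) : IsBC φ.hom
    (Module.compHom (Gh p n i A ⊗[TruncatedWittVector p n A] M) (show R →+* Gh p n i A from φ.hom))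
    (Module.compHom (Gh p n i B ⊗[TruncatedWittVector p n B] P)
      (show A →+* Gh p n i B from ι₁.hom))
    (gMap i ι₂.hom D.a₂).toAddMonoidHom :=
  IsBC.of_isPushout D.hB (isBC_gMap i ι₂.hom D.a₂ D.ha₂)

theorem bcb (i : Fin n) : IsBC φ.hom
    (Module.compHom (Gh p n i B ⊗[TruncatedWittVector p n B] P)
      (show R →+* Gh p n i B from ι₁.hom.comp φ.hom))
    (Module.compHom (Gh p n i T ⊗[TruncatedWittVector p n T] Q)
      (show A →+* Gh p n i T from κ₁.hom))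
    (gMap i κ₂₃.hom D.b₂₃).toAddMonoidHom :=
  IsBC.of_isPushout D.hT (isBC_gMap i κ₂₃.hom D.b₂₃ D.hb₂₃)

theorem gh12 (i : Fin n) (a : Gh p n i A) (g : Gh p n i A ⊗[TruncatedWittVector p n A] M) :
    gMap i q₁₂.hom D.b₁₂ ((ghf p i ι₁.hom a) • gMap i ι₂.hom D.a₂ g) =
      ghf p i κ₁.hom a • gMap i κ₂₃.hom D.b₂₃ (gMap i ι₁.hom D.a₁ g) := by
  rw [gMap_smul, D.g12]
  congr 1
  exact congrArg (fun f => f.hom a) D.h12

theorem gh13 (i : Fin n) (a : Gh p n i A) (g : Gh p n i A ⊗[TruncatedWittVector p n A] M) :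
    gMap i q₁₃.hom D.b₁₃ ((ghf p i ι₁.hom a) • gMap i ι₂.hom D.a₂ g) =
      ghf p i κ₁.hom a • gMap i κ₂₃.hom D.b₂₃ (gMap i ι₂.hom D.a₂ g) := by
  rw [gMap_smul, D.g13]
  congr 1
  exact congrArg (fun f => f.hom a) D.h13

/-- vanishing of `H^1` on the graded pieces -/
theorem h1 (i : Fin n) (y : Gh p n i B ⊗[TruncatedWittVector p n B] P)
    (hy : gMap i κ₂₃.hom D.b₂₃ y - gMap i q₁₃.hom D.b₁₃ y + gMap i q₁₂.hom D.b₁₂ y = 0) :
    ∃ e, y = gMap i ι₁.hom D.a₁ e - gMap i ι₂.hom D.a₂ e :=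
  h1_vanish (R := R) (A := Gh p n i A) (B := Gh p n i B) (T := Gh p n i T) (φ := φ.hom) D.hφ
    (ghf p i ι₁.hom) (ghf p i κ₁.hom) (gMap i ι₁.hom D.a₁).toAddMonoidHom
    (gMap i ι₂.hom D.a₂).toAddMonoidHom (gMap i q₁₂.hom D.b₁₂).toAddMonoidHom
    (gMap i q₁₃.hom D.b₁₃).toAddMonoidHom (gMap i κ₂₃.hom D.b₂₃).toAddMonoidHom
    (fun a m => gMap_smul i _ _ a m) (D.bca i) (D.bcb i) (fun a m => D.gh12 i a m)
    (fun a m => D.gh13 i a m) y hy

theorem step (hQ : Module.Flat (TruncatedWittVector p n T) Q) (i : Fin n) (x : P)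
    (hx : x ∈ Fil p n B i • (⊤ : Submodule (TruncatedWittVector p n B) P))
    (hc : D.b₂₃ x - D.b₁₃ x + D.b₁₂ x = 0) :
    ∃ e ∈ Fil p n A i • (⊤ : Submodule (TruncatedWittVector p n A) M),
      x - (D.a₁ e - D.a₂ e) ∈ Fil p n B (i + 1) • (⊤ : Submodule (TruncatedWittVector p n B) P) := by
  obtain ⟨z, rfl⟩ := exists_mu_eq _ _ hx
  obtain ⟨e₀, he₀⟩ := D.h1 i (LinearMap.rTensor P (lead p i B) z) (by
    rw [← lead_zMap, ← lead_zMap, ← lead_zMap, ← map_sub, ← map_add]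
    refine rTensor_eq_zero (J' := Fil p n T (i + 1)) Q (Fil_antitone (Nat.le_succ _))
      (lead_eq_zero i) _ ?_
    rw [map_add, map_sub, mu_zMap, mu_zMap, mu_zMap, hc]
    exact Submodule.zero_mem _)
  obtain ⟨zA, rfl⟩ := LinearMap.rTensor_surjective M (lead_surjective (p := p) (S := A) i) e₀
  refine ⟨mu _ _ zA, mu_mem _ _ _, ?_⟩
  rw [← mu_zMap, ← mu_zMap, ← map_sub, ← map_sub]
  refine mu_mem_of_rTensor_eq_zero P (Fil_antitone (Nat.le_succ _)) (lead_eq_zero i)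
    (lead_surjective i) _ ?_
  rw [map_sub, map_sub, lead_zMap, lead_zMap, he₀, sub_self]

theorem lift1 (hQ : Module.Flat (TruncatedWittVector p n T) Q) (m : M)
    (hm : D.a₁ m - D.a₂ m ∈ Fil p n B 1 • (⊤ : Submodule (TruncatedWittVector p n B) P)) :
    ∃ m', m' - m ∈ Fil p n A 1 • (⊤ : Submodule (TruncatedWittVector p n A) M) ∧
      D.a₁ m' = D.a₂ m' := by
  have key : ∀ k : ℕ, 1 ≤ k → k ≤ max 1 n → ∃ m', m' - m ∈ Fil p n A 1 •
      (⊤ : Submodule (TruncatedWittVector p n A) M) ∧ D.a₁ m' - D.a₂ m' ∈ Fil p n B k •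
        (⊤ : Submodule (TruncatedWittVector p n B) P) := by
    intro k hk
    induction k, hk using Nat.le_induction with
    | base => exact fun _ => ⟨m, by rw [sub_self]; exact Submodule.zero_mem _, hm⟩
    | succ k hk ih =>
      intro hkn
      obtain ⟨m', h1, h2⟩ := ih (by omega)
      have hkn' : k < n := by
        rcases le_total 1 n with h | h
        · rw [max_eq_right h] at hkn
          exact hkn
        · rw [max_eq_left h] at hkn
          omega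
      obtain ⟨e, he, he'⟩ := D.step hQ ⟨k, hkn'⟩ _ h2 (D.coc m')
      refine ⟨m' - e, ?_, ?_⟩
      · have h3 : e ∈ Fil p n A 1 • (⊤ : Submodule (TruncatedWittVector p n A) M) :=
          Submodule.smul_mono_left (Fil_antitone hk) he
        have h4 : m' - e - m = (m' - m) - e := by abel
        rw [h4]
        exact Submodule.sub_mem _ h1 h3
      · have h4 : D.a₁ (m' - e) - D.a₂ (m' - e) = D.a₁ m' - D.a₂ m' - (D.a₁ e - D.a₂ e) := by
          rw [map_sub, map_sub]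
          abel
        rw [h4]
        exact he'
  obtain ⟨m', h1, h2⟩ := key (max 1 n) (le_max_left _ _) le_rfl
  refine ⟨m', h1, ?_⟩
  rw [Fil_of_le (le_max_right _ _), Submodule.bot_smul, Submodule.mem_bot, sub_eq_zero] at h2
  exact h2

end Dat

end K673.GhStep
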