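import Groth.Prelude.Def_WittGrp
import Mathlib.RingTheory.Nilpotent.Basic
import Mathlib.RingTheory.WittVector.Domain

/-!
# The filtration of truncated Witt vectors and its ghost module structure

`Fil i ⊆ W_n(S)`: vectors whose components of index `< i` vanish; `Fil i / Fil (i+1) ≅ S` with `W_n(S)` acting
through the `i`-th ghost component `gh i : W_n(S) → S`.
-/

set_option autoImplicit false

namespace K673.WittFil

open WittVector

variable {p : ℕ} [hp : Fact p.Prime] {n : ℕ} {S T : Type*} [CommRing S] [CommRing T]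

theorem ghostComponent_eq_zero (i : ℕ) (X : WittVector p S) (h : ∀ j ≤ i, X.coeff j = 0) :
    ghostComponent i X = 0 := by
  rw [ghostComponent_apply, wittPolynomial, map_sum]
  refine Finset.sum_eq_zero fun j hj => ?_
  have hj' : j ≤ i := Nat.lt_succ_iff.1 (Finset.mem_range.1 hj)
  rw [MvPolynomial.aeval_monomial, Finsupp.prod_single_index (by simp), h j hj', zero_pow, mul_zero]
  exact pow_ne_zero _ hp.out.ne_zero

/-- the `i`-th ghost component of a truncated Witt vector of length `n > i` -/
noncomputable def gh (i : Fin n) : TruncatedWittVector p n S →+* S :=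
  RingHom.liftOfSurjective (WittVector.truncate n : WittVector p S →+* TruncatedWittVector p n S)
    (WittVector.truncate_surjective p n S)
    ⟨ghostComponent (i : ℕ), fun X hX => by
      rw [RingHom.mem_ker]
      refine ghostComponent_eq_zero _ _ fun j hj => ?_
      exact (WittVector.mem_ker_truncate n X).1 hX j (lt_of_le_of_lt hj i.2)⟩

theorem gh_truncate (i : Fin n) (X : WittVector p S) :
    gh i (WittVector.truncate n X) = ghostComponent (i : ℕ) X :=
  RingHom.liftOfRightInverse_comp_apply _ _ _ _ _

theorem gh_truncMap (f : S →+* T) (i : Fin n) (x : TruncatedWittVector p n S) :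
    gh i (WittGrp.truncMap p n f x) = f (gh i x) := by
  obtain ⟨X, rfl⟩ := WittVector.truncate_surjective p n S x
  rw [WittGrp.truncMap_truncate, gh_truncate, gh_truncate, ghostComponent_apply,
    ghostComponent_apply, MvPolynomial.aeval_eq_eval₂Hom, MvPolynomial.aeval_eq_eval₂Hom]
  change MvPolynomial.eval₂ _ _ _ = f (MvPolynomial.eval₂ _ _ _)
  rw [MvPolynomial.hom_eval₂]
  congr 1
  exact RingHom.ext_int _ _

theorem gh_comp_truncMap (f : S →+* T) (i : Fin n) :
    (gh i).comp (WittGrp.truncMap p n f) = f.comp (gh i) :=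
  RingHom.ext fun x => gh_truncMap f i x

theorem gh_zero (h : 0 < n) (x : TruncatedWittVector p n S) : gh ⟨0, h⟩ x = x.coeff ⟨0, h⟩ := by
  obtain ⟨X, rfl⟩ := WittVector.truncate_surjective p n S x
  rw [gh_truncate, WittVector.coeff_truncate, ghostComponent_apply]
  simp [wittPolynomial_zero]

variable (p n S) in
/-- truncated Witt vectors whose components of index `< i` vanish -/
def Fil (i : ℕ) : Ideal (TruncatedWittVector p n S) where
  carrier := {x | ∀ j : Fin n, (j : ℕ) < i → x.coeff j = 0}
  zero_mem' j _ := TruncatedWittVector.coeff_zero p n S j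
  add_mem' := by
    intro x y hx hy j hj
    have h : ∀ z : TruncatedWittVector p n S, (∀ j : Fin n, (j : ℕ) < i → z.coeff j = 0) →
        z.out ∈ RingHom.ker (WittVector.truncate i : WittVector p S →+* _) := by
      intro z hz
      rw [WittVector.mem_ker_truncate]
      intro k hk
      by_cases hkn : k < n
      · have := hz ⟨k, hkn⟩ hk
        rw [← TruncatedWittVector.coeff_out] at this
        exact this
      · simp [TruncatedWittVector.out, hkn]
    have h1 := (RingHom.ker (WittVector.truncate i : WittVector p S →+* _)).add_mem (h x hx) (h y hy)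
    rw [WittVector.mem_ker_truncate] at h1
    have h2 : x + y = WittVector.truncate n (x.out + y.out) := by
      rw [map_add]
      exact congrArg₂ (· + ·) (TruncatedWittVector.truncateFun_out x).symm
        (TruncatedWittVector.truncateFun_out y).symm
    rw [h2, WittVector.coeff_truncate]
    exact h1 _ hj
  smul_mem' := by
    intro a x hx j hj
    have h : x.out ∈ RingHom.ker (WittVector.truncate i : WittVector p S →+* _) := by
      rw [WittVector.mem_ker_truncate]
      intro k hk
      by_cases hkn : k < n
      · have := hx ⟨k, hkn⟩ hk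
        rw [← TruncatedWittVector.coeff_out] at this
        exact this
      · simp [TruncatedWittVector.out, hkn]
    have h1 := (RingHom.ker (WittVector.truncate i : WittVector p S →+* _)).mul_mem_left a.out h
    rw [WittVector.mem_ker_truncate] at h1
    have h2 : a • x = WittVector.truncate n (a.out * x.out) := by
      rw [map_mul, smul_eq_mul]
      exact congrArg₂ (· * ·) (TruncatedWittVector.truncateFun_out a).symm
        (TruncatedWittVector.truncateFun_out x).symm
    rw [h2, WittVector.coeff_truncate]
    exact h1 _ hj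

theorem mem_Fil {i : ℕ} {x : TruncatedWittVector p n S} :
    x ∈ Fil p n S i ↔ ∀ j : Fin n, (j : ℕ) < i → x.coeff j = 0 := Iff.rfl

theorem mem_Fil_zero (x : TruncatedWittVector p n S) : x ∈ Fil p n S 0 :=
  fun _ h => absurd h (Nat.not_lt_zero _)

theorem Fil_zero : Fil p n S 0 = ⊤ := eq_top_iff.2 fun x _ => mem_Fil_zero x

theorem Fil_of_le {i : ℕ} (h : n ≤ i) : Fil p n S i = ⊥ := by
  rw [eq_bot_iff]
  intro x hx
  rw [Ideal.mem_bot]
  exact TruncatedWittVector.ext fun j => (hx j (lt_of_lt_of_le j.2 h)).trans
    (TruncatedWittVector.coeff_zero p n S j).symm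

theorem Fil_antitone {i j : ℕ} (h : i ≤ j) : Fil p n S j ≤ Fil p n S i :=
  fun _ hx k hk => hx k (lt_of_lt_of_le hk h)

theorem exists_rep {i : ℕ} {x : TruncatedWittVector p n S} (hx : x ∈ Fil p n S i) :
    ∃ Y : WittVector p S, x = WittVector.truncate n (verschiebung^[i] Y) := by
  have h : ∀ k < i, x.out.coeff k = 0 := by
    intro k hk
    by_cases hkn : k < n
    · have := hx ⟨k, hkn⟩ hk
      rw [← TruncatedWittVector.coeff_out] at this
      exact this
    · simp [TruncatedWittVector.out, hkn]
  refine ⟨x.out.shift i, ?_⟩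
  rw [← WittVector.eq_iterate_verschiebung h]
  exact (TruncatedWittVector.truncateFun_out x).symm

theorem rep_mem {i : ℕ} (Y : WittVector p S) :
    WittVector.truncate n (verschiebung^[i] Y) ∈ Fil p n S i := by
  intro j hj
  rw [WittVector.coeff_truncate]
  exact iterate_verschiebung_coeff_eq_zero _ hj

theorem rep_coeff (i : Fin n) (Y : WittVector p S) :
    (WittVector.truncate n (verschiebung^[(i : ℕ)] Y)).coeff i = Y.coeff 0 := by
  rw [WittVector.coeff_truncate]
  have := iterate_verschiebung_coeff Y (i : ℕ) 0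
  rwa [zero_add] at this

theorem iterate_verschiebung_add (i : ℕ) (X Y : WittVector p S) :
    verschiebung^[i] (X + Y) = verschiebung^[i] X + verschiebung^[i] Y := by
  induction i with
  | zero => rfl
  | succ i ih => rw [Function.iterate_succ_apply', Function.iterate_succ_apply',
      Function.iterate_succ_apply', ih, map_add]

theorem ghostComponent_iterate_frobenius (i : ℕ) (X : WittVector p S) :
    (frobenius^[i] X).coeff 0 = ghostComponent i X := by
  have h : ∀ (i k : ℕ) (X : WittVector p S),
      ghostComponent k (frobenius^[i] X) = ghostComponent (k + i) X := by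
    intro i
    induction i with
    | zero => intro k X; rfl
    | succ i ih =>
      intro k X
      rw [Function.iterate_succ_apply', ghostComponent_frobenius, ih, add_right_comm, add_assoc]
  have h0 := h i 0 X
  rw [zero_add] at h0
  rw [← h0, ghostComponent_apply]
  simp [wittPolynomial_zero]

theorem coeff_add_of_mem (i : Fin n) {x y : TruncatedWittVector p n S} (hx : x ∈ Fil p n S i)
    (hy : y ∈ Fil p n S i) : (x + y).coeff i = x.coeff i + y.coeff i := by
  obtain ⟨X, rfl⟩ := exists_rep hx
  obtain ⟨Y, rfl⟩ := exists_rep hy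
  rw [← map_add, ← iterate_verschiebung_add, rep_coeff, rep_coeff, rep_coeff, WittVector.add_coeff_zero]

theorem coeff_mul_of_mem (i : Fin n) (a : TruncatedWittVector p n S)
    {x : TruncatedWittVector p n S} (hx : x ∈ Fil p n S i) :
    (a * x).coeff i = gh i a * x.coeff i := by
  obtain ⟨X, rfl⟩ := exists_rep hx
  obtain ⟨A, rfl⟩ := WittVector.truncate_surjective p n S a
  rw [← map_mul, mul_comm A, iterate_verschiebung_mul_left, rep_coeff, rep_coeff, gh_truncate,
    WittVector.mul_coeff_zero, ghostComponent_iterate_frobenius, mul_comm]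

/-- the element `V^i [s]` of `W_n(S)` -/
def sg (p : ℕ) (i : Fin n) (s : S) : TruncatedWittVector p n S :=
  TruncatedWittVector.mk p fun j => if j = i then s else 0

omit hp in
theorem coeff_sg_self (i : Fin n) (s : S) : (sg p i s).coeff i = s := by
  rw [sg, TruncatedWittVector.coeff_mk, if_pos rfl]

theorem sg_mem (i : Fin n) (s : S) : sg p i s ∈ Fil p n S i := by
  intro j hj
  rw [sg, TruncatedWittVector.coeff_mk, if_neg]
  rintro rfl
  exact lt_irrefl _ hj

theorem mem_Fil_succ_iff (i : Fin n) {x : TruncatedWittVector p n S} (hx : x ∈ Fil p n S i) :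
    x ∈ Fil p n S (i + 1) ↔ x.coeff i = 0 := by
  refine ⟨fun h => h i (Nat.lt_succ_self _), fun h j hj => ?_⟩
  rcases Nat.lt_succ_iff_lt_or_eq.1 hj with h1 | h1
  · exact hx j h1
  · have : j = i := Fin.ext h1
    rw [this]
    exact h

theorem truncMap_mem_Fil (f : S →+* T) {i : ℕ} {x : TruncatedWittVector p n S}
    (hx : x ∈ Fil p n S i) : WittGrp.truncMap p n f x ∈ Fil p n T i := by
  intro j hj
  rw [WittGrp.coeff_truncMap, hx j hj, map_zero]

/-- `p` is nilpotent in `W_n(S)` if it is nilpotent in `S`. -/
theorem isNilpotent_natCast (h : IsNilpotent (p : S)) : IsNilpotent (p : TruncatedWittVector p n S) := by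
  obtain ⟨N, hN⟩ := h
  have key : ∀ i ≤ n, ∃ k : ℕ, (p : TruncatedWittVector p n S) ^ k ∈ Fil p n S i := by
    intro i
    induction i with
    | zero => exact fun _ => ⟨0, mem_Fil_zero _⟩
    | succ i ih =>
      intro hi
      obtain ⟨k, hk⟩ := ih (by omega)
      refine ⟨N + k, ?_⟩
      have hmem : (p : TruncatedWittVector p n S) ^ (N + k) ∈ Fil p n S i := by
        rw [pow_add]
        exact Ideal.mul_mem_left _ _ hk
      rw [mem_Fil_succ_iff (⟨i, hi⟩ : Fin n) hmem, pow_add,
        coeff_mul_of_mem (⟨i, hi⟩ : Fin n) _ hk, map_pow, map_natCast, hN, zero_mul]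
  obtain ⟨k, hk⟩ := key n le_rfl
  rw [Fil_of_le le_rfl, Ideal.mem_bot] at hk
  exact ⟨k, hk⟩

theorem mul_mem_of_Fil_one {x y : TruncatedWittVector p n S} (hx : x ∈ Fil p n S 1)
    (hy : y ∈ Fil p n S 1) : ∃ z ∈ Fil p n S 1, x * y = p * z := by
  obtain ⟨X, rfl⟩ := exists_rep hx
  obtain ⟨Y, rfl⟩ := exists_rep hy
  refine ⟨WittVector.truncate n (verschiebung^[1] (X * Y)), rep_mem _, ?_⟩
  rw [← map_natCast (WittVector.truncate n : WittVector p S →+* TruncatedWittVector p n S), ← map_mul,
    ← map_mul]
  congr 1
  simp only [Function.iterate_one]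
  have h1 : verschiebung X * verschiebung Y = verschiebung (X * frobenius (verschiebung Y)) :=
    (verschiebung_mul_frobenius X (verschiebung Y)).symm
  rw [h1, frobenius_verschiebung, ← mul_assoc]
  have h2 : ∀ (k : ℕ) (Z : WittVector p S), verschiebung (Z * (k : WittVector p S)) =
      (k : WittVector p S) * verschiebung Z := by
    intro k Z
    rw [mul_comm Z, ← nsmul_eq_mul, map_nsmul, nsmul_eq_mul]
  rw [h2]

/-- `Fil 1 ⊆ W_n(S)` is nilpotent if `p` is nilpotent in `S`. -/
theorem isNilpotent_Fil_one (h : IsNilpotent (p : S)) : IsNilpotent (Fil p n S 1) := by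
  obtain ⟨N, hN⟩ := isNilpotent_natCast (n := n) h
  have hsq : Fil p n S 1 * Fil p n S 1 ≤ Ideal.span {(p : TruncatedWittVector p n S)} * Fil p n S 1 := by
    rw [Ideal.mul_le]
    intro x hx y hy
    obtain ⟨z, hz, h⟩ := mul_mem_of_Fil_one hx hy
    rw [h]
    exact Ideal.mul_mem_mul (Ideal.mem_span_singleton_self _) hz
  have hk : ∀ k : ℕ, Fil p n S 1 ^ (k + 1) ≤ Ideal.span {(p : TruncatedWittVector p n S)} ^ k * Fil p n S 1 := by
    intro k
    induction k with
    | zero => rw [zero_add, pow_one, pow_zero, Ideal.one_eq_top, Ideal.top_mul]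
    | succ k ih =>
      rw [pow_succ]
      refine (Ideal.mul_mono_left ih).trans ?_
      rw [mul_assoc, pow_succ, mul_assoc]
      exact Ideal.mul_mono_right hsq
  refine ⟨N + 1, ?_⟩
  rw [Submodule.zero_eq_bot, eq_bot_iff]
  refine (hk N).trans ?_
  rw [Ideal.span_singleton_pow, hN]
  simp

end K673.WittFil
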